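import Cfsg.Agent.FischerOrth.Signs

/-!
# The class as the points of the larger space
-/

set_option autoImplicit false

namespace CfsgLib.FischerOrth

open Cfsg CfsgLib.FischerTypes Module

variable {G : Type*} [Group G] {D : Set G}
variable {V : Type*} [AddCommGroup V] [Module F3 V] {S : OSpace V} {d : G}

theorem pt_cases {p : F3 × V} (hp : S.ext.Pt p) :
    (p.1 = 0 ∧ S.Pt p.2) ∨ (p.1 ≠ 0 ∧ p.2 = 0) ∨ (p.1 ≠ 0 ∧ p.2 ≠ 0 ∧ S.Sing (p.1 • p.2)) := by
  have h : S.ext.B p p = -1 := hp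
  rw [S.ext_apply] at h
  by_cases h1 : p.1 = 0
  · exact Or.inl ⟨h1, by rw [h1, mul_zero, neg_zero, zero_add] at h; exact h⟩
  by_cases h2 : p.2 = 0
  · exact Or.inr (Or.inl ⟨h1, h2⟩)
  refine Or.inr (Or.inr ⟨h1, h2, ?_, smul_ne_zero h1 h2⟩)
  rw [f3_sq h1] at h
  have h0 : S.B p.2 p.2 = 0 := by linear_combination h
  simp [h0]

theorem smul_smul_self {t : F3} (ht : t ≠ 0) (v : V) : t • t • v = v := by
  rw [smul_smul, f3_sq ht, one_smul]

open Classical in
/-- The labelling of the class made from labellings of the two parts. -/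
noncomputable def label (C : Coord D S d) (Φ : V → G) (p : F3 × V) : G :=
  if p.2 = 0 then d else if p.1 = 0 then C.φ p.2 else Φ (p.1 • p.2)

/-- The properties of the labels above the singular vectors. -/
structure Labels (C : Coord D S d) (Φ : V → G) : Prop where
  lies : ∀ w, S.Sing w → Atlas.Over (C := C) (Φ w) w
  surj : ∀ y ∈ D, ¬ Commute d y → ∃ w, S.Sing w ∧ Φ w = y
  inj : ∀ w u, S.Sing w → S.Sing u → Φ u = Φ w → u = w
  comm : ∀ w u, S.Sing w → S.Sing u → (Commute (Φ w) (Φ u) ↔ S.B w u = 1 ∨ u = w)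

variable {C : Coord D S d} {Φ : V → G}

theorem Labels.lies_commute (H : Labels C Φ) {a w : V} (ha : S.Pt a) (hw : S.Sing w) :
    Commute (C.φ a) (Φ w) ↔ S.B w a = 0 :=
  (H.lies w hw).2.2.2 a ha

theorem label_top (C : Coord D S d) (Φ : V → G) {p : F3 × V} (h : p.2 = 0) : label C Φ p = d := by
  rw [label, if_pos h]

theorem label_base (C : Coord D S d) (Φ : V → G) {p : F3 × V} (h : p.1 = 0) (hp : S.Pt p.2) :
    label C Φ p = C.φ p.2 := by
  rw [label, if_neg (S.pt_ne_zero hp), if_pos h]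

theorem label_far (C : Coord D S d) (Φ : V → G) {p : F3 × V} (h : p.1 ≠ 0) (hp : p.2 ≠ 0) :
    label C Φ p = Φ (p.1 • p.2) := by
  rw [label, if_neg hp, if_neg h]

theorem label_mem (hd : d ∈ D) (H : Labels C Φ) {p : F3 × V} (hp : S.ext.Pt p) : label C Φ p ∈ D := by
  rcases pt_cases hp with ⟨h1, h2⟩ | ⟨-, h2⟩ | ⟨h1, h2, h3⟩
  · rw [label_base C Φ h1 h2]; exact (C.mem _ h2).1
  · rw [label_top C Φ h2]; exact hd
  · rw [label_far C Φ h1 h2]; exact (H.lies _ h3).1

theorem label_surj (H : Labels C Φ) {x : G} (hx : x ∈ D) : ∃ p, S.ext.Pt p ∧ label C Φ p = x := by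
  by_cases hc : Commute d x
  · by_cases he : x = d
    · exact ⟨(1, 0), S.pt_top, by rw [label_top C Φ rfl, he]⟩
    · obtain ⟨a, ha, rfl⟩ := C.surj x ⟨hx, he, hc⟩
      exact ⟨(0, a), S.pt_lift.2 ha, label_base C Φ rfl ha⟩
  · obtain ⟨w, hw, rfl⟩ := H.surj x hx hc
    refine ⟨(1, w), Atlas.pt_unit one_ne_zero hw, ?_⟩
    rw [label_far C Φ one_ne_zero hw.2, one_smul]

theorem label_eq_iff (H : Labels C Φ) {p q : F3 × V} (hp : S.ext.Pt p) (hq : S.ext.Pt q) :
    label C Φ p = label C Φ q ↔ q = p ∨ q = -p := by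
  constructor
  · intro h
    rcases pt_cases hp with ⟨a1, a2⟩ | ⟨a1, a2⟩ | ⟨a1, a2, a3⟩ <;>
      rcases pt_cases hq with ⟨b1, b2⟩ | ⟨b1, b2⟩ | ⟨b1, b2, b3⟩
    · rw [label_base C Φ a1 a2, label_base C Φ b1 b2, C.eq_iff _ _ a2 b2] at h
      rcases h with h | h
      · exact Or.inl (Prod.ext (b1.trans a1.symm) h)
      · exact Or.inr (Prod.ext (by rw [Prod.fst_neg, a1, b1, neg_zero]) h)
    · rw [label_base C Φ a1 a2, label_top C Φ b2] at h
      exact absurd h (C.mem _ a2).2.1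
    · rw [label_base C Φ a1 a2, label_far C Φ b1 b2] at h
      exact absurd (h ▸ (C.mem _ a2).2.2) (H.lies _ b3).2.1
    · rw [label_top C Φ a2, label_base C Φ b1 b2] at h
      exact absurd h.symm (C.mem _ b2).2.1
    · rcases f3_cases p.1 with h1 | h1 | h1
      · exact absurd h1 a1
      all_goals rcases f3_cases q.1 with h2 | h2 | h2
      all_goals first
        | exact absurd h2 b1
        | exact Or.inl (Prod.ext (h2.trans h1.symm) (b2.trans a2.symm))
        | exact Or.inr (Prod.ext (by simp [h1, h2]) (by simp [a2, b2]))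
    · rw [label_top C Φ a2, label_far C Φ b1 b2] at h
      have := (H.lies _ b3).2.1
      rw [← h] at this
      exact absurd (Commute.refl d) this
    · rw [label_far C Φ a1 a2, label_base C Φ b1 b2] at h
      exact absurd (h ▸ (C.mem _ b2).2.2) (H.lies _ a3).2.1
    · rw [label_far C Φ a1 a2, label_top C Φ b2] at h
      have := (H.lies _ a3).2.1
      rw [h] at this
      exact absurd (Commute.refl d) this
    · rw [label_far C Φ a1 a2, label_far C Φ b1 b2] at h
      have hv := H.inj _ _ a3 b3 h.symm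
      have hqp : q = (q.1 * p.1) • p :=
        Prod.ext (by simp [mul_assoc, f3_sq a1]) (by
          rw [Prod.smul_snd, mul_smul, ← hv, smul_smul_self b1])
      rcases f3_cases (q.1 * p.1) with ht | ht | ht
      · exact absurd ht (mul_ne_zero b1 a1)
      · exact Or.inl (by rw [hqp, ht, one_smul])
      · exact Or.inr (by rw [hqp, ht, neg_one_smul])
  · rintro (rfl | rfl)
    · rfl
    · rcases pt_cases hp with ⟨a1, a2⟩ | ⟨a1, a2⟩ | ⟨a1, a2, a3⟩
      · rw [label_base C Φ a1 a2, label_base C Φ (p := -p) (by simp [a1]) (S.pt_neg a2)]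
        exact (C.φ_neg a2).symm
      · rw [label_top C Φ a2, label_top C Φ (p := -p) (by simp [a2])]
      · rw [label_far C Φ a1 a2, label_far C Φ (p := -p) (by simpa using a1) (by simpa using a2)]
        simp

theorem label_commute (H : Labels C Φ) {p q : F3 × V} (hp : S.ext.Pt p) (hq : S.ext.Pt q) :
    Commute (label C Φ p) (label C Φ q) ↔ S.ext.B p q = 0 ∨ q = p ∨ q = -p := by
  have base : ∀ {p q : F3 × V}, S.ext.Pt p → S.ext.Pt q → p.1 = 0 → S.Pt p.2 →
      (Commute (label C Φ p) (label C Φ q) ↔ S.ext.B p q = 0 ∨ q = p ∨ q = -p) := by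
    intro p q hp hq a1 a2
    rw [← label_eq_iff H hp hq, S.ext_apply, a1, zero_mul, neg_zero, zero_add]
    rcases pt_cases hq with ⟨b1, b2⟩ | ⟨b1, b2⟩ | ⟨b1, b2, b3⟩
    · rw [label_base C Φ a1 a2, label_base C Φ b1 b2, C.commute_iff a2 b2, C.eq_iff _ _ a2 b2]
    · rw [label_base C Φ a1 a2, label_top C Φ b2]
      exact iff_of_true (C.mem _ a2).2.2.symm (Or.inl (by rw [b2, map_zero]))
    · rw [label_base C Φ a1 a2, label_far C Φ b1 b2, H.lies_commute a2 b3, S.smul_left, mul_eq_zero,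
        S.symm q.2 p.2, or_iff_right b1, or_iff_left]
      exact fun h => (H.lies _ b3).2.1 (h ▸ (C.mem _ a2).2.2)
  rcases pt_cases hp with ⟨a1, a2⟩ | ⟨a1, a2⟩ | ⟨a1, a2, a3⟩
  · exact base hp hq a1 a2
  all_goals rcases pt_cases hq with ⟨b1, b2⟩ | ⟨b1, b2⟩ | ⟨b1, b2, b3⟩
  case' inr.inl.inl | inr.inr.inl =>
    rw [Commute.symm_iff, S.ext.symm, base hq hp b1 b2]
    exact or_congr Iff.rfl (or_congr ⟨fun h => h.symm, fun h => h.symm⟩
      ⟨fun h => (neg_eq_iff_eq_neg.2 h).symm, fun h => (neg_eq_iff_eq_neg.2 h).symm⟩)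
  all_goals rw [← label_eq_iff H hp hq, S.ext_apply]
  · rw [label_top C Φ a2, label_top C Φ b2]
    exact iff_of_true (Commute.refl d) (Or.inr rfl)
  · rw [label_top C Φ a2, label_far C Φ b1 b2, a2, map_zero, LinearMap.zero_apply, add_zero]
    refine iff_of_false (H.lies _ b3).2.1 ?_
    rintro (h | h)
    · exact mul_ne_zero a1 b1 (neg_eq_zero.1 h)
    · exact (H.lies _ b3).2.1 (h ▸ Commute.refl d)
  · rw [label_far C Φ a1 a2, label_top C Φ b2, b2, map_zero, add_zero]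
    refine iff_of_false (fun h => (H.lies _ a3).2.1 h.symm) ?_
    rintro (h | h)
    · exact mul_ne_zero a1 b1 (neg_eq_zero.1 h)
    · exact (H.lies _ a3).2.1 (h ▸ Commute.refl d)
  · rw [label_far C Φ a1 a2, label_far C Φ b1 b2, H.comm _ _ a3 b3]
    refine or_congr ?_ ⟨fun h => by rw [h], fun h => H.inj _ _ a3 b3 h.symm⟩
    simp only [map_smul, LinearMap.smul_apply, smul_eq_mul]
    revert a1 b1
    generalize p.1 = x; generalize q.1 = y; generalize S.B p.2 q.2 = z
    clear * -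
    revert x y z; decide

variable [Finite V]

theorem exists_label (X : Ctx D S) (C : Coord D S d) (hd : d ∈ D) {c : G} (hc : c ∈ D) (hdc : ¬ Commute d c) :
    ∃ Ψ : F3 × V → G, (∀ p, S.ext.Pt p → Ψ p ∈ D) ∧ (∀ x ∈ D, ∃ p, S.ext.Pt p ∧ Ψ p = x) ∧
      (∀ p q, S.ext.Pt p → S.ext.Pt q → (Ψ p = Ψ q ↔ q = p ∨ q = -p)) ∧
      ∀ p q, S.ext.Pt p → S.ext.Pt q → (Commute (Ψ p) (Ψ q) ↔ S.ext.B p q = 0 ∨ q = p ∨ q = -p) := by
  obtain ⟨w₀, h₀⟩ := X.exists_over C hd hc hdc
  obtain ⟨Φ, h1, h2, h3, h4⟩ := X.exists_labels hd h₀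
  have H : Labels C Φ := ⟨h1, h2, h3, h4⟩
  exact ⟨label C Φ, fun p hp => label_mem hd H hp, fun x hx => label_surj H hx,
    fun p q hp hq => label_eq_iff H hp hq, fun p q hp hq => label_commute H hp hq⟩

end CfsgLib.FischerOrth
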