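import Mathlib

/-!
# Symmetric bilinear spaces over the field with three elements

A vector `v` with `B v v = -1` is a point; a nonzero vector with `B w w = 0` is singular.  We collect the
existence lemmas used for recognising orthogonal reflection groups from a 3-transposition class.
-/

set_option autoImplicit false

namespace CfsgLib.FischerOrth

open Module

/-- The field with three elements. -/
abbrev F3 := ZMod 3

/-- A nondegenerate symmetric bilinear space over the field with three elements. -/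
structure OSpace (V : Type*) [AddCommGroup V] [Module F3 V] where
  /-- the form -/
  B : V →ₗ[F3] V →ₗ[F3] F3
  symm : ∀ x y, B x y = B y x
  nd : ∀ x, (∀ y, B x y = 0) → x = 0

theorem f3_cases (x : F3) : x = 0 ∨ x = 1 ∨ x = -1 := by revert x; decide

theorem f3_sq {x : F3} (h : x ≠ 0) : x * x = 1 := by revert x; decide

theorem f3_shift : ∀ X a b A A' τ : F3, A ≠ 0 → A' ≠ 0 →
    ∃ p q : F3, X + (p * a + q * b) + (p * a + q * b) + (p * p * A + q * q * A') = τ := by decide

theorem f3_lin : ∀ X y τ : F3, y ≠ 0 → ∃ t : F3, X + t * y + t * y = τ := by decide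

theorem f3_avoid : ∀ a q : F3, a ≠ 0 → ∃ s : F3, s ≠ 0 ∧ a * s + q ≠ 0 := by decide

variable {V : Type*} [AddCommGroup V] [Module F3 V]

omit [AddCommGroup V] [Module F3 V] in
theorem three_zero [AddCommGroup V] [Module F3 V] (b : V) : b + b + b = 0 := by
  have : (1 + 1 + 1 : F3) • b = 0 := by rw [show (1 + 1 + 1 : F3) = 0 from by decide, zero_smul]
  rwa [add_smul, add_smul, one_smul] at this

namespace OSpace

variable (S : OSpace V)

/-- A point. -/
def Pt (v : V) : Prop := S.B v v = -1

/-- A singular vector. -/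
def Sing (w : V) : Prop := S.B w w = 0 ∧ w ≠ 0

/-- The reflection in a point. -/
def refl (a x : V) : V := x - S.B a x • a

theorem add_left (x y z : V) : S.B (x + y) z = S.B x z + S.B y z := by simp

theorem smul_left (t : F3) (x z : V) : S.B (t • x) z = t * S.B x z := by simp

theorem sub_left (x y z : V) : S.B (x - y) z = S.B x z - S.B y z := by simp

theorem quad_add (x y : V) : S.B (x + y) (x + y) = S.B x x + S.B x y + S.B x y + S.B y y := by
  simp only [map_add, LinearMap.add_apply, S.symm y x]; ring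

theorem quad_add_smul (x r : V) (hr : S.B r r = 0) (t : F3) :
    S.B (x + t • r) (x + t • r) = S.B x x + t * S.B x r + t * S.B x r := by
  rw [quad_add]; simp only [map_smul, LinearMap.smul_apply, smul_eq_mul, hr]; ring

theorem pt_ne_zero {v : V} (hv : S.Pt v) : v ≠ 0 := by
  rintro rfl; rw [Pt, map_zero] at hv; exact absurd hv.symm (by simp)

theorem pt_neg {v : V} (hv : S.Pt v) : S.Pt (-v) := by simpa [Pt] using hv

theorem sing_neg {w : V} (hw : S.Sing w) : S.Sing (-w) := by
  refine ⟨by simpa using hw.1, neg_ne_zero.2 hw.2⟩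

theorem refl_refl {a : V} (ha : S.Pt a) (x : V) : S.refl a (S.refl a x) = x := by
  have ha' : S.B a a = -1 := ha
  simp only [refl, map_sub, map_smul, smul_eq_mul, ha']
  rw [show S.B a x - S.B a x * -1 = -S.B a x by
    generalize S.B a x = t; revert t; decide, neg_smul]
  abel

theorem quad_refl {a : V} (ha : S.Pt a) (x y : V) : S.B (S.refl a x) (S.refl a y) = S.B x y := by
  have ha' : S.B a a = -1 := ha
  simp only [refl, map_sub, map_smul, LinearMap.sub_apply, LinearMap.smul_apply, smul_eq_mul, ha', S.symm x a]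
  have : (3 : F3) = 0 := by decide
  linear_combination (S.B a x * S.B a y) * (-1 : F3) * this

theorem pt_refl {a x : V} (ha : S.Pt a) (hx : S.Pt x) : S.Pt (S.refl a x) := by
  rw [Pt, S.quad_refl ha]; exact hx

theorem refl_neg_left (a x : V) : S.refl (-a) x = S.refl a x := by
  simp [refl]

theorem refl_neg_right (a x : V) : S.refl a (-x) = -S.refl a x := by
  simp only [refl, map_neg, neg_smul]; abel

/-- The perpendicular space of some vectors. -/
def perp {k : ℕ} (f : Fin k → V) : Submodule F3 V := LinearMap.ker (LinearMap.pi fun i => S.B (f i))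

theorem mem_perp {k : ℕ} {f : Fin k → V} {x : V} : x ∈ S.perp f ↔ ∀ i, S.B (f i) x = 0 := by
  simp [perp, funext_iff]

variable [Finite V]

theorem exists_repr (L : V →ₗ[F3] F3) : ∃ h : V, ∀ x, S.B h x = L x := by
  have hinj : Function.Injective S.B := by
    rw [← LinearMap.ker_eq_bot, LinearMap.ker_eq_bot']
    exact fun x hx => S.nd x fun y => by rw [hx]; rfl
  obtain ⟨h, hh⟩ := (LinearMap.injective_iff_surjective_of_finrank_eq_finrank
    (Subspace.dual_finrank_eq (K := F3) (V := V)).symm).1 hinj L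
  exact ⟨h, fun x => by rw [hh]⟩

theorem exists_dual {k : ℕ} (f : Fin k → V) {v : V} (hv : v ∉ Submodule.span F3 (Set.range f)) :
    ∃ h : V, (∀ i, S.B (f i) h = 0) ∧ S.B v h = 1 := by
  obtain ⟨L, hL, hLk⟩ := Submodule.exists_le_ker_of_notMem hv
  obtain ⟨h, hh⟩ := S.exists_repr ((L v)⁻¹ • L)
  refine ⟨h, fun i => ?_, ?_⟩
  · rw [S.symm, hh, LinearMap.smul_apply, LinearMap.mem_ker.1 (hLk (Submodule.subset_span ⟨i, rfl⟩)), smul_zero]
  · rw [S.symm, hh, LinearMap.smul_apply, smul_eq_mul, inv_mul_cancel₀ hL]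

theorem mem_span_of_rad {k : ℕ} {f : Fin k → V} {r : V} (hr : ∀ x ∈ S.perp f, S.B r x = 0) :
    r ∈ Submodule.span F3 (Set.range f) := by
  by_contra h
  obtain ⟨x, hx, h1⟩ := S.exists_dual f h
  rw [hr x (S.mem_perp.2 hx)] at h1
  exact zero_ne_one h1

/-- A subspace contains two orthogonal nonsingular vectors. -/
def Plane (U : Submodule F3 V) : Prop :=
  ∃ a ∈ U, ∃ b ∈ U, S.B a a ≠ 0 ∧ S.B b b ≠ 0 ∧ S.B a b = 0

theorem finrank_le_rad_add_one {U : Submodule F3 V} (h : ¬ S.Plane U) (R : Submodule F3 V)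
    (hR : ∀ r ∈ U, (∀ x ∈ U, S.B r x = 0) → r ∈ R) : finrank F3 U ≤ finrank F3 R + 1 := by
  have pol : ∀ x y : V, S.B x x = 0 → S.B y y = 0 → S.B (x + y) (x + y) = 0 → S.B x y = 0 := fun x y hx hy hxy => by
    rw [S.quad_add, hx, hy] at hxy
    revert hxy; generalize S.B x y = t; revert t; decide
  by_cases ha : ∃ a ∈ U, S.B a a ≠ 0
  · obtain ⟨a, haU, ha⟩ := ha
    set U' : Submodule F3 V := U ⊓ LinearMap.ker (S.B a) with hU'
    have hiso : ∀ x ∈ U', S.B x x = 0 := fun x hx => by
      by_contra hne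
      exact h ⟨a, haU, x, hx.1, ha, hne, LinearMap.mem_ker.1 hx.2⟩
    have hle : U' ≤ R := fun r hr => hR r hr.1 fun x hx => by
      set t : F3 := S.B a x / S.B a a
      have hx' : x - t • a ∈ U' := ⟨sub_mem hx (U.smul_mem _ haU),
        LinearMap.mem_ker.2 (by rw [map_sub, map_smul, smul_eq_mul, div_mul_cancel₀ _ ha, sub_self])⟩
      have h0 := pol r (x - t • a) (hiso _ hr) (hiso _ hx') (hiso _ (add_mem hr hx'))
      rw [map_sub, map_smul, S.symm r a, LinearMap.mem_ker.1 hr.2, smul_zero, sub_zero] at h0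
      exact h0
    have h1 : finrank F3 ↥(U ⊔ LinearMap.ker (S.B a)) ≤ finrank F3 V := Submodule.finrank_le _
    have h2 := Submodule.finrank_sup_add_finrank_inf_eq U (LinearMap.ker (S.B a))
    have h3 := LinearMap.finrank_range_add_finrank_ker (S.B a)
    have h4 : finrank F3 (LinearMap.range (S.B a)) ≤ 1 := by
      simpa using Submodule.finrank_le (LinearMap.range (S.B a))
    have h5 : finrank F3 U' ≤ finrank F3 R := Submodule.finrank_mono hle
    rw [← hU'] at h2
    omega
  · push Not at ha
    have hle : U ≤ R := fun r hr => hR r hr fun x hx => pol r x (ha r hr) (ha x hx) (ha _ (add_mem hr hx))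
    have := Submodule.finrank_mono hle
    omega

theorem finrank_perp {k : ℕ} (f : Fin k → V) : finrank F3 V ≤ finrank F3 (S.perp f) + k := by
  have h3 := LinearMap.finrank_range_add_finrank_ker (LinearMap.pi fun i => S.B (f i))
  have h4 := Submodule.finrank_le (LinearMap.range (LinearMap.pi fun i => S.B (f i)))
  rw [finrank_pi, Fintype.card_fin] at h4
  show finrank F3 V ≤ finrank F3 (LinearMap.ker (LinearMap.pi fun i => S.B (f i))) + k
  omega

/-- The radical of a perpendicular space is small. -/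
theorem finrank_rad {k j : ℕ} (f : Fin k → V) (N : Fin j → V)
    (hN : ∀ i, N i ∈ Submodule.span F3 (Set.range f))
    (hG : ∀ c : Fin j → F3, (∀ i, ∑ l, c l * S.B (N l) (N i) = 0) → c = 0) :
    finrank F3 ↥(Submodule.span F3 (Set.range f) ⊓ S.perp f) + j ≤ k := by
  set R : Submodule F3 V := Submodule.span F3 (Set.range f) ⊓ S.perp f
  let Φ : (Fin j → F3) →ₗ[F3] V := Fintype.linearCombination F3 N
  have hΦ : ∀ c, Φ c = ∑ l, c l • N l := fun c => Fintype.linearCombination_apply F3 N c
  have hB : ∀ c i, S.B (Φ c) (N i) = ∑ l, c l * S.B (N l) (N i) := fun c i => by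
    rw [hΦ, map_sum, LinearMap.sum_apply]; simp
  have hinj : Function.Injective Φ := by
    rw [← LinearMap.ker_eq_bot, LinearMap.ker_eq_bot']
    exact fun c hc => hG c fun i => by rw [← hB, hc, map_zero]; rfl
  have hle : LinearMap.range Φ ≤ Submodule.span F3 (Set.range f) := by
    rintro _ ⟨c, rfl⟩
    rw [hΦ]
    exact Submodule.sum_mem _ fun l _ => Submodule.smul_mem _ _ (hN l)
  have hdis : LinearMap.range Φ ⊓ R = ⊥ := by
    rw [Submodule.eq_bot_iff]
    rintro _ ⟨⟨c, rfl⟩, -, hp⟩
    have hperp : ∀ y ∈ Submodule.span F3 (Set.range f), S.B (Φ c) y = 0 := fun y hy => by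
      induction hy using Submodule.span_induction with
      | mem z hz => obtain ⟨i, rfl⟩ := hz; rw [S.symm]; exact S.mem_perp.1 hp i
      | zero => simp
      | add x y _ _ hx hy => rw [map_add, hx, hy, add_zero]
      | smul t x _ hx => rw [map_smul, hx, smul_zero]
    rw [hG c fun i => by rw [← hB, hperp _ (hN i)], map_zero]
  have h2 := Submodule.finrank_sup_add_finrank_inf_eq (LinearMap.range Φ) R
  rw [hdis, finrank_bot, LinearMap.finrank_range_of_inj hinj, finrank_pi, Fintype.card_fin] at h2
  have h3 : finrank F3 ↥(LinearMap.range Φ ⊔ R) ≤ k :=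
    (Submodule.finrank_mono (sup_le hle inf_le_left)).trans
      ((finrank_range_le_card (R := F3) f).trans (Fintype.card_fin k).le)
  omega

theorem finrank_perp_le_of_not_plane {k : ℕ} (f : Fin k → V) (h : ¬ S.Plane (S.perp f)) :
    finrank F3 (S.perp f) ≤ finrank F3 ↥(Submodule.span F3 (Set.range f) ⊓ S.perp f) + 1 :=
  S.finrank_le_rad_add_one h _ fun _ hr hr' => ⟨S.mem_span_of_rad hr', hr⟩

/-- Perpendicular spaces of few vectors contain two orthogonal nonsingular vectors. -/
theorem exists_plane {k j : ℕ} (f : Fin k → V) (N : Fin j → V)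
    (hN : ∀ i, N i ∈ Submodule.span F3 (Set.range f))
    (hG : ∀ c : Fin j → F3, (∀ i, ∑ l, c l * S.B (N l) (N i) = 0) → c = 0)
    (h : 2 * k + 2 ≤ finrank F3 V + j) : S.Plane (S.perp f) := by
  by_contra hno
  have h1 := S.finrank_perp_le_of_not_plane f hno
  have h2 := S.finrank_rad f N hN hG
  have h4 := S.finrank_perp f
  omega

/-- Perpendicular spaces of few vectors contain a nonsingular vector. -/
theorem exists_aniso {k j : ℕ} (f : Fin k → V) (N : Fin j → V)
    (hN : ∀ i, N i ∈ Submodule.span F3 (Set.range f))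
    (hG : ∀ c : Fin j → F3, (∀ i, ∑ l, c l * S.B (N l) (N i) = 0) → c = 0)
    (h : 2 * k + 1 ≤ finrank F3 V + j) : ∃ q ∈ S.perp f, S.B q q ≠ 0 := by
  by_contra hno
  push Not at hno
  have hle : S.perp f ≤ Submodule.span F3 (Set.range f) ⊓ S.perp f := fun r hr => by
    refine ⟨S.mem_span_of_rad fun x hx => ?_, hr⟩
    have h0 := hno (r + x) (add_mem hr hx)
    rw [S.quad_add, hno r hr, hno x hx] at h0
    revert h0; generalize S.B r x = t; revert t; decide
  have h1 := Submodule.finrank_mono hle
  have h2 := S.finrank_rad f N hN hG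
  have h4 := S.finrank_perp f
  omega

/-- A plane adjusts the norm of a vector to any value. -/
theorem exists_shift {U : Submodule F3 V} (hU : S.Plane U) (x : V) (τ : F3) :
    ∃ v ∈ U, S.B (x + v) (x + v) = τ := by
  obtain ⟨a, ha, b, hb, hA, hA', hab⟩ := hU
  obtain ⟨p, q, hpq⟩ := f3_shift (S.B x x) (S.B x a) (S.B x b) (S.B a a) (S.B b b) τ hA hA'
  refine ⟨p • a + q • b, add_mem (U.smul_mem _ ha) (U.smul_mem _ hb), ?_⟩
  rw [S.quad_add]
  simp only [map_add, map_smul, LinearMap.add_apply, LinearMap.smul_apply, smul_eq_mul, S.symm b a, hab]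
  linear_combination hpq

/-- A singular vector reached along an isotropic direction. -/
theorem exists_adjust (x r : V) (hr : S.B r r = 0) (hxr : S.B x r ≠ 0) (τ : F3) :
    ∃ t : F3, S.B (x + t • r) (x + t • r) = τ := by
  obtain ⟨t, ht⟩ := f3_lin (S.B x x) (S.B x r) τ hxr
  exact ⟨t, by rw [S.quad_add_smul x r hr, ht]⟩

end OSpace

end CfsgLib.FischerOrth
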