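import Cfsg.Agent.FischerOrth.Coord
import Cfsg.Agent.FischerThm.GoodRefl
import Cfsg.Agent.FischerThm.SpStep.Model

/-!
# Between the reflection models and coordinates by points

A neighbourhood of reflection type has coordinates by points, and a class parametrised by the points of the
space of one dimension more is of reflection type.
-/

set_option autoImplicit false

universe u v

namespace CfsgLib.FischerOrth

open Cfsg Matrix Module CfsgLib.Spinor CfsgLib.FischerTypes CfsgLib.FischerThm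
open CfsgLib.Transpositions (reflClass classRefl classRefl_mem exists_eq_classRefl commute_classRefl_iff
  classRefl_ne classRefl_eq_of_polar_ne reflClass_isThreeTranspositionSet reflClass_isThreeTranspositionClass)

section Class

variable {n : ℕ} {Q : QuadraticForm F3 (Fin n → F3)}

theorem quad_eq_one_iff (v : Fin n → F3) : Q v = 1 ↔ QuadraticMap.polar (⇑Q) v v = -1 := by
  rw [polar_self']
  generalize Q v = t
  revert t; decide

theorem classRefl_eq_iff {a b : Fin n → F3} (ha : Q a = 1) (hb : Q b = 1) :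
    classRefl one_ne_zero a ha = classRefl one_ne_zero b hb ↔ b = a ∨ b = -a := by
  refine ⟨fun h => ?_, fun h => (classRefl_eq_of_polar_ne one_ne_zero ha hb h).symm⟩
  rcases (commute_classRefl_iff one_ne_zero ha hb).1 (h ▸ Commute.refl _) with h0 | h0
  · exact absurd h (classRefl_ne one_ne_zero ha hb h0)
  · exact h0

theorem classRefl_conj {a b : Fin n → F3} (ha : Q a = 1) (hb : Q b = 1)
    (hc : Q (b - QuadraticMap.polar (⇑Q) a b • a) = 1) :
    classRefl one_ne_zero a ha * classRefl one_ne_zero b hb * (classRefl one_ne_zero a ha)⁻¹ =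
      classRefl one_ne_zero _ hc := by
  refine Subtype.ext ?_
  show reflIso Q a (by rw [ha]; exact one_ne_zero) * reflIso Q b (by rw [hb]; exact one_ne_zero) *
    (reflIso Q a (by rw [ha]; exact one_ne_zero))⁻¹ = _
  rw [conj_reflIso]
  refine mat_ext Q ?_
  show reflectionMatrix (⇑Q) _ = reflectionMatrix (⇑Q) _
  rw [mat_reflIso, reflectionMatrix_mulVec, refl_apply, ha, inv_one, one_mul]

end Class

variable {G : Type u} [Group G] {D : Set G}

/-- Coordinates by points on a neighbourhood of reflection type. -/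
theorem exists_coord [Finite G] (h : Generic D) {d : G} (hd : d ∈ D) {n : ℕ} {s : ZMod 3} (hn : 5 ≤ n)
    (hs : s = 1 ∨ s = -1) (hT : IsReflT (sImg (perp D d)) n s) :
    ∃ S : OSpace (Fin n → ZMod 3), (∀ x y, S.B x y = -∑ i, stdW n s i * (x i * y i)) ∧
      Nonempty (Coord D S d) := by
  classical
  have hs0 : s ≠ 0 := by rcases hs with rfl | rfl <;> decide
  set Q := stdQ n s with hQdef
  have hQ := stdQ_nondegenerate n hs0
  let S : OSpace (Fin n → ZMod 3) :=
    { B := QuadraticMap.polarBilin Q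
      symm := fun x y => QuadraticMap.polar_comm _ x y
      nd := fun x hx => hQ.1 x hx }
  have hB : ∀ x y, S.B x y = QuadraticMap.polar (⇑Q) x y := fun x y => rfl
  refine ⟨S, fun x y => ?_, ?_⟩
  · rw [hB, hQdef, polar_stdQ, ← Finset.sum_neg_distrib]
    refine Finset.sum_congr rfl fun i _ => ?_
    generalize stdW n s i = w
    generalize x i * y i = p
    revert w p; decide
  obtain ⟨e, he⟩ := DIso.trans hT (GoodRefl.dIso_reflD n hn hs0)
  have hclass := reflClass_isThreeTranspositionSet (Q := Q) (one_ne_zero (α := ZMod 3))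
  have hnc := GoodRefl.sNoCentral_reflClass (c := 1) hQ (by simpa using hn) one_ne_zero
  have hsub := perp_subset D d
  have hpt : ∀ {a}, S.Pt a → Q a = 1 := fun ha => (quad_eq_one_iff _).2 ha
  have hex : ∀ a (ha : S.Pt a), ∃ x, ∃ hx : x ∈ perp D d,
      e (sMk _ hx) = sMk _ (classRefl_mem one_ne_zero a (hpt ha)) := by
    intro a ha
    have hm := sMk_mem_sImg (classRefl_mem one_ne_zero a (hpt ha))
    rw [← he] at hm
    obtain ⟨q, hq, hq'⟩ := hm
    obtain ⟨x, hx, rfl⟩ := exists_sMk hq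
    exact ⟨x, hx, hq'⟩
  choose f hfm hf using hex
  let φ : (Fin n → ZMod 3) → G := fun a => if ha : S.Pt a then f a ha else 1
  have hφ : ∀ a (ha : S.Pt a), φ a = f a ha := fun a ha => dif_pos ha
  have hinj : ∀ {x y : G} (hx : x ∈ perp D d) (hy : y ∈ perp D d), e (sMk _ hx) = e (sMk _ hy) → x = y :=
    fun hx hy hxy => sMk_inj h.cls.1 hsub (h.sNoCentral hd) hx hy (e.injective hxy)
  refine ⟨⟨φ, fun a ha => (hφ a ha).symm ▸ hfm a ha, fun x hx => ?_, fun a b ha hb => ?_,
    fun a b ha hb => ?_⟩⟩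
  · have hm : e (sMk _ hx) ∈ sImg (reflClass Q 1) := he ▸ ⟨_, sMk_mem_sImg hx, rfl⟩
    obtain ⟨g, hg, hgx⟩ := exists_sMk hm
    obtain ⟨v, hv, rfl⟩ := exists_eq_classRefl one_ne_zero hg
    have hv' : S.Pt v := (quad_eq_one_iff v).1 hv
    exact ⟨v, hv', by rw [hφ v hv']; exact hinj _ hx (by rw [hf v hv', ← hgx])⟩
  · rw [hφ a ha, hφ b hb, ← classRefl_eq_iff (hpt ha) (hpt hb)]
    constructor
    · intro hab
      refine sMk_inj hclass subset_rfl hnc (classRefl_mem one_ne_zero a (hpt ha))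
        (classRefl_mem one_ne_zero b (hpt hb)) ?_
      rw [← hf a ha, ← hf b hb]
      simp only [hab]
    · intro hab
      refine hinj (hfm a ha) (hfm b hb) ?_
      rw [hf a ha, hf b hb]
      simp only [hab]
  · have hr := S.pt_refl ha hb
    rw [hφ a ha, hφ b hb, hφ _ hr]
    have hm : f a ha * f b hb * (f a ha)⁻¹ ∈ perp D d :=
      conj_mem_perp h.group (hfm a ha).2.2.symm (hfm b hb)
    refine hinj hm (hfm _ hr) ?_
    rw [show sMk _ hm = sMk _ (hfm a ha) * sMk _ (hfm b hb) * (sMk _ (hfm a ha))⁻¹ from rfl,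
      map_mul, map_mul, map_inv, hf a ha, hf b hb, hf _ hr]
    exact congrArg (QuotientGroup.mk) (Subtype.ext (classRefl_conj (hpt ha) (hpt hb) (hpt hr)))

/-- A class parametrised by points is of reflection type. -/
theorem isReflT_of_map [Finite G] (h : Generic D) {n : ℕ} {s : ZMod 3} (hn : 5 ≤ n) (hs : s = 1 ∨ s = -1)
    (S : OSpace (Fin n → ZMod 3)) (hS : ∀ x y, S.B x y = -∑ i, stdW n s i * (x i * y i))
    (Ψ : ZMod 3 × (Fin n → ZMod 3) → G) (mem : ∀ p, S.ext.Pt p → Ψ p ∈ D)
    (surj : ∀ x ∈ D, ∃ p, S.ext.Pt p ∧ Ψ p = x)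
    (eq_iff : ∀ p q, S.ext.Pt p → S.ext.Pt q → (Ψ p = Ψ q ↔ q = p ∨ q = -p))
    (comm : ∀ p q, S.ext.Pt p → S.ext.Pt q → (Commute (Ψ p) (Ψ q) ↔ S.ext.B p q = 0 ∨ q = p ∨ q = -p)) :
    IsReflT D (n + 1) s := by
  classical
  have hs0 : s ≠ 0 := by rcases hs with rfl | rfl <;> decide
  set Q := stdQ (n + 1) s with hQdef
  have hQ := stdQ_nondegenerate (n + 1) hs0
  set T := S.ext with hTdef
  let κ : ZMod 3 × (Fin n → ZMod 3) → (Fin (n + 1) → ZMod 3) := fun p => Fin.snoc p.2 p.1
  have hκinj : Function.Injective κ := fun p q hpq => by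
    obtain ⟨h1, h2⟩ := Fin.snoc_inj.1 hpq
    exact Prod.ext h2 h1
  have hκsurj : ∀ w, ∃ p, κ p = w := fun w => ⟨(w (Fin.last n), Fin.init w), Fin.snoc_init_self w⟩
  have hκneg : ∀ p, κ (-p) = -κ p := fun p => by
    funext i; refine Fin.lastCases ?_ (fun j => ?_) i <;> simp [κ]
  have hκsub : ∀ p q (t : ZMod 3), κ (q - t • p) = κ q - t • κ p := fun p q t => by
    funext i; refine Fin.lastCases ?_ (fun j => ?_) i <;> simp [κ]
  have hpol : ∀ p q, QuadraticMap.polar (⇑Q) (κ p) (κ q) = T.B p q := by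
    intro p q
    have hlast : stdW (n + 1) s (Fin.last n) = 1 := if_neg (by simp; omega)
    have hw : ∀ i : Fin n, stdW (n + 1) s i.castSucc = stdW n s i := fun i => rfl
    rw [hQdef, polar_stdQ, Fin.sum_univ_castSucc, hTdef, OSpace.ext_apply, hS, ← Finset.sum_neg_distrib]
    simp only [κ, Fin.snoc_castSucc, Fin.snoc_last, hlast, hw]
    rw [add_comm]
    refine congrArg₂ (· + ·) ?_ (Finset.sum_congr rfl fun i _ => ?_)
    · generalize p.1 * q.1 = t
      revert t; decide
    · generalize stdW n s i = w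
      generalize p.2 i * q.2 i = t
      revert w t; decide
  have hpt : ∀ {p}, T.Pt p ↔ Q (κ p) = 1 := fun {p} => by rw [quad_eq_one_iff, hpol]; rfl
  -- the map preserves conjugation
  have hconj : ∀ p q, T.Pt p → T.Pt q → Ψ p * Ψ q * (Ψ p)⁻¹ = Ψ (T.refl p q) := by
    intro p q hp hq
    rw [FischerTypes.inv_eq h.cls.1 (mem p hp)]
    by_cases hc : Commute (Ψ p) (Ψ q)
    · rw [hc.eq, mul_assoc, FischerTypes.mul_self h.cls.1 (mem p hp), mul_one,
        eq_iff q _ hq (T.pt_refl hp hq)]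
      have hpp : T.B p p = -1 := hp
      rcases (comm p q hp hq).1 hc with hb | rfl | rfl
      · left; simp [OSpace.refl, hb]
      · right
        rw [OSpace.refl, hpp, neg_one_smul, sub_neg_eq_add]
        exact eq_neg_of_add_eq_zero_left (three_zero q)
      · right
        rw [OSpace.refl, map_neg, hpp, neg_neg, one_smul, neg_neg]
        calc -p - p = -(p + p + p) + p := by abel
          _ = p := by rw [three_zero, neg_zero, zero_add]
    obtain ⟨x, hxdef⟩ : ∃ x, x = Ψ p * Ψ q * Ψ p := ⟨_, rfl⟩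
    have hx : x ∈ D := hxdef ▸ FischerTypes.conj_mem h.group (mem p hp) (mem q hq)
    obtain ⟨u, hu, hux⟩ := surj x hx
    have hxq : ¬ Commute x (Ψ q) := hxdef ▸ FischerTypes.not_commute_conj h.cls.1 (mem p hp) (mem q hq) hc
    have hxp : ¬ Commute x (Ψ p) := by
      rw [hxdef, FischerTypes.braid h.cls.1 (mem p hp) (mem q hq) hc]
      exact FischerTypes.not_commute_conj h.cls.1 (mem q hq) (mem p hp) fun h' => hc h'.symm
    rw [← hxdef, ← hux]
    have hup : T.B u p ≠ 0 := fun h0 => hxp (hux ▸ (comm u p hu hp).2 (Or.inl h0))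
    have hspan : u ∈ Submodule.span (ZMod 3) (Set.range ![p, q]) := by
      by_contra hns
      have hdim : 2 * 2 + 3 ≤ finrank (ZMod 3) (ZMod 3 × (Fin n → ZMod 3)) + 1 := by
        rw [finrank_prod, finrank_self, finrank_fin_fun]; omega
      obtain ⟨t, ht, htp, hut⟩ := T.exists_pt_sep ![p, q] ![p]
        (fun i => by rw [Subsingleton.elim i 0]; exact OSpace.mem_span_range ![p, q] 0)
        (fun c h' => T.gram_one (by rw [show T.B p p = -1 from hp]; decide) c h') hdim hns
      have h0 : T.B p t = 0 := ht 0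
      have h1 : T.B q t = 0 := ht 1
      have hcx : Commute x (Ψ t) := by
        rw [hxdef]
        have c1 := (comm p t hp htp).2 (Or.inl h0)
        have c2 := (comm q t hq htp).2 (Or.inl h1)
        exact (c1.mul_left c2).mul_left c1
      rcases (comm u t hu htp).1 (hux ▸ hcx) with h' | rfl | rfl
      · exact hut h'
      · exact hup (by rw [T.symm]; exact h0)
      · exact hup (by rw [T.symm]; simpa using h0)
    rw [eq_iff u _ hu (T.pt_refl hp hq)]
    rw [Submodule.mem_span_range_iff_exists_fun] at hspan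
    obtain ⟨c, hcu⟩ := hspan
    rw [Fin.sum_univ_two] at hcu
    simp only [Matrix.cons_val_zero, Matrix.cons_val_one] at hcu
    have hb : T.B p q ≠ 0 := fun h0 => hc ((comm p q hp hq).2 (Or.inl h0))
    have huu : T.B u u = -1 := hu
    have hne : ∀ {w}, T.Pt w → ¬ Commute x (Ψ w) → u ≠ w ∧ u ≠ -w := fun {w} hw hxw =>
      ⟨fun e => hxw (hux ▸ (comm u w hu hw).2 (Or.inr (Or.inl e.symm))),
        fun e => hxw (hux ▸ (comm u w hu hw).2 (Or.inr (Or.inr (by rw [e, neg_neg]))))⟩
    obtain ⟨np1, np2⟩ := hne hp hxp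
    obtain ⟨nq1, nq2⟩ := hne hq hxq
    rw [← hcu, T.quad_add] at huu
    simp only [map_smul, LinearMap.smul_apply, smul_eq_mul, show T.B p p = -1 from hp,
      show T.B q q = -1 from hq] at huu
    rw [OSpace.refl]
    rcases f3_cases (T.B p q) with hb' | hb' | hb'
    · exact absurd hb' hb
    all_goals
      rw [hb'] at huu ⊢
      rcases f3_cases (c 0) with h0 | h0 | h0 <;> rcases f3_cases (c 1) with h1 | h1 | h1 <;>
        simp only [h0, h1, zero_smul, one_smul, neg_one_smul, zero_add, add_zero] at hcu huu ⊢ <;>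
        first
          | exact absurd huu (by decide)
          | exact absurd hcu.symm np1
          | exact absurd hcu.symm np2
          | exact absurd hcu.symm nq1
          | exact absurd hcu.symm nq2
          | (left; rw [← hcu]; abel1)
          | (right; rw [← hcu]; abel1)
  -- transport to the model
  have hcls := reflClass_isThreeTranspositionClass (c := 1) hQ (by simp; omega) one_ne_zero
  have hgrp := Transpositions.isThreeTranspositionGroup_of_class hcls
  have hnc := GoodRefl.sNoCentral_reflClass (c := 1) hQ (by simp; omega) one_ne_zero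
  have hcl : ∀ a ∈ reflClass Q 1, ∀ b ∈ reflClass Q 1, a * b * a ∈ reflClass Q 1 :=
    fun a ha b hb => FischerTypes.conj_mem hgrp ha hb
  refine DIso.trans ?_ (GoodRefl.dIso_reflD (n + 1) (by omega) hs0).symm
  let ψ : G → SQuot (reflClass Q 1) := fun x => if hx : x ∈ D then
    sMk _ (classRefl_mem one_ne_zero (κ (surj x hx).choose) (hpt.1 (surj x hx).choose_spec.1)) else 1
  have hψ : ∀ p (hp : T.Pt p), ψ (Ψ p) = sMk _ (classRefl_mem one_ne_zero (κ p) (hpt.1 hp)) := by
    intro p hp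
    simp only [ψ, dif_pos (mem p hp)]
    obtain ⟨h1, h2⟩ := (surj _ (mem p hp)).choose_spec
    refine congrArg QuotientGroup.mk (Subtype.ext ((classRefl_eq_iff (hpt.1 h1) (hpt.1 hp)).2 ?_))
    rcases (eq_iff _ p h1 hp).1 h2 with e | e
    · exact Or.inl (congrArg κ e)
    · exact Or.inr ((congrArg κ e).trans (hκneg _))
  have hψc : ∀ x ∈ D, ∀ y ∈ D, x * y * x⁻¹ ∈ D ∧ ψ (x * y * x⁻¹) = ψ x * ψ y * (ψ x)⁻¹ := by
    intro x hx y hy
    obtain ⟨p, hp, rfl⟩ := surj x hx
    obtain ⟨q, hq, rfl⟩ := surj y hy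
    refine ⟨h.group.2.1 _ _ hy, ?_⟩
    rw [hconj p q hp hq, hψ p hp, hψ q hq, hψ _ (T.pt_refl hp hq)]
    refine congrArg QuotientGroup.mk (Subtype.ext ?_)
    have hk : κ (T.refl p q) = κ q - QuadraticMap.polar (⇑Q) (κ p) (κ q) • κ p := by
      rw [hpol, OSpace.refl, hκsub]
    show classRefl one_ne_zero (κ (T.refl p q)) (hpt.1 (T.pt_refl hp hq)) = classRefl one_ne_zero (κ p) (hpt.1 hp) *
      classRefl one_ne_zero (κ q) (hpt.1 hq) * (classRefl one_ne_zero (κ p) (hpt.1 hp))⁻¹
    rw [classRefl_conj (hpt.1 hp) (hpt.1 hq) (by rw [← hk]; exact hpt.1 (T.pt_refl hp hq))]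
    exact (classRefl_eq_iff _ _).2 (Or.inl hk.symm)
  refine Sp.dIso_of_conj h.group.2.2 (isThreeTranspositionGroup_sImg hgrp.1 subset_rfl hnc hcl).2.2
    h.center (center_sQuot_eq_bot hgrp.1 subset_rfl hnc hcl) ψ ⟨?_, ?_, ?_⟩ hψc (fun x hx y hy => ?_)
  · intro x hx
    obtain ⟨p, hp, rfl⟩ := surj x hx
    rw [hψ p hp]; exact sMk_mem_sImg _
  · intro x hx y hy he
    obtain ⟨p, hp, rfl⟩ := surj x hx
    obtain ⟨q, hq, rfl⟩ := surj y hy
    rw [hψ p hp, hψ q hq] at he
    have := (classRefl_eq_iff (hpt.1 hp) (hpt.1 hq)).1 (sMk_inj hgrp.1 subset_rfl hnc _ _ he)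
    rw [eq_iff p q hp hq, ← hκinj.eq_iff, ← hκinj.eq_iff (b := -p), hκneg]
    exact this
  · intro z hz
    obtain ⟨g, hg, rfl⟩ := exists_sMk hz
    obtain ⟨v, hv, rfl⟩ := exists_eq_classRefl one_ne_zero hg
    obtain ⟨p, rfl⟩ := hκsurj v
    exact ⟨Ψ p, mem p (hpt.2 hv), hψ p (hpt.2 hv)⟩
  · have hinv : ∀ z : SQuot (reflClass Q 1), z ∈ sImg (reflClass Q 1) → z⁻¹ = z := fun z hz =>
      FischerTypes.inv_eq (isThreeTranspositionGroup_sImg hgrp.1 subset_rfl hnc hcl).1 hz
    obtain ⟨h1, h2⟩ := hψc x hx y hy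
    have hψx : (ψ x)⁻¹ = ψ x := by
      obtain ⟨p, hp, rfl⟩ := surj x hx
      rw [hψ p hp]; exact hinv _ (sMk_mem_sImg _)
    rw [FischerTypes.inv_eq h.cls.1 hx] at h1 h2 ⊢
    rw [hψx] at h2 ⊢
    exact ⟨h1, h2⟩

end CfsgLib.FischerOrth
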