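import Cfsg.Agent.FischerOrth.Coord

/-!
# Charts at the partners

At a point `e` the members commuting with the member at `e` receive coordinates by the points `(α, v)` of the
larger space with `v` perpendicular to `e`.
-/

set_option autoImplicit false

namespace CfsgLib.FischerOrth

open Cfsg CfsgLib.FischerTypes Module

variable {G : Type*} [Group G] {D : Set G}
variable {V : Type*} [AddCommGroup V] [Module F3 V] {S : OSpace V} {d : G}

/-- A chart at a point `e`. -/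
structure Chart (C : Coord D S d) (e : V) where
  /-- coordinates at the member -/
  ψ : Coord D S (C.φ e)
  /-- the linear map into them -/
  M : F3 × V →ₗ[F3] V
  isom : ∀ p q, S.B e p.2 = 0 → S.B e q.2 = 0 → S.B (M p) (M q) = S.ext.B p q
  top : ψ.φ (M (1, 0)) = d
  base : ∀ a, S.Pt a → S.B e a = 0 → ψ.φ (M (0, a)) = C.φ a
  surj : ∀ v, S.Pt v → ∃ p : F3 × V, S.B e p.2 = 0 ∧ M p = v

namespace Chart

variable {C : Coord D S d} {e : V} (K : Chart C e)

/-- The member at a point of the larger space. -/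
def Θ (p : F3 × V) : G := K.ψ.φ (K.M p)

theorem Θ_top : K.Θ (1, 0) = d := K.top

theorem Θ_base {a : V} (ha : S.Pt a) (hea : S.B e a = 0) : K.Θ (0, a) = C.φ a := K.base a ha hea

theorem pt_M {p : F3 × V} (hp : S.B e p.2 = 0) (hpp : S.ext.Pt p) : S.Pt (K.M p) := by
  rw [OSpace.Pt, K.isom p p hp hp]; exact hpp

theorem mem {p : F3 × V} (hp : S.B e p.2 = 0) (hpp : S.ext.Pt p) : K.Θ p ∈ perp D (C.φ e) :=
  K.ψ.mem _ (K.pt_M hp hpp)

theorem M_inj (he : S.Pt e) {p q : F3 × V} (hp : S.B e p.2 = 0) (hq : S.B e q.2 = 0) (h : K.M p = K.M q) :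
    p = q := by
  have hr : S.B e (p - q).2 = 0 := by rw [Prod.snd_sub, map_sub, hp, hq, sub_zero]
  have h0 : ∀ u : F3 × V, S.B e u.2 = 0 → S.ext.B (p - q) u = 0 := fun u hu => by
    rw [← K.isom _ _ hr hu, map_sub, h, sub_self, map_zero]; rfl
  refine sub_eq_zero.1 (Prod.ext ?_ (S.nd _ fun y => ?_))
  · have := h0 (1, 0) (by simp)
    rwa [S.ext.symm, S.ext_top_left, neg_eq_zero] at this
  · have := h0 (0, y + S.B e y • e) (by
      simp only [map_add, map_smul, smul_eq_mul, show S.B e e = -1 from he]; ring)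
    simpa [OSpace.ext_apply, S.symm p.2 e, S.symm q.2 e, hp, hq] using this

theorem eq_iff (he : S.Pt e) {p q : F3 × V} (hp : S.B e p.2 = 0) (hpp : S.ext.Pt p) (hq : S.B e q.2 = 0)
    (hqp : S.ext.Pt q) : K.Θ p = K.Θ q ↔ q = p ∨ q = -p := by
  rw [Θ, Θ, K.ψ.eq_iff _ _ (K.pt_M hp hpp) (K.pt_M hq hqp)]
  refine or_congr ⟨fun h => (K.M_inj he hq hp h), fun h => h ▸ rfl⟩
    ⟨fun h => K.M_inj he hq (by simp [hp]) (by rw [h, map_neg]), fun h => by rw [h, map_neg]⟩

theorem conj {p q : F3 × V} (hp : S.B e p.2 = 0) (hpp : S.ext.Pt p) (hq : S.B e q.2 = 0)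
    (hqp : S.ext.Pt q) : K.Θ p * K.Θ q * (K.Θ p)⁻¹ = K.Θ (S.ext.refl p q) := by
  rw [Θ, Θ, K.ψ.conj _ _ (K.pt_M hp hpp) (K.pt_M hq hqp), Θ]
  congr 1
  simp only [OSpace.refl, map_sub, map_smul, K.isom p q hp hq]

theorem commute_iff (he : S.Pt e) {p q : F3 × V} (hp : S.B e p.2 = 0) (hpp : S.ext.Pt p) (hq : S.B e q.2 = 0)
    (hqp : S.ext.Pt q) : Commute (K.Θ p) (K.Θ q) ↔ S.ext.B p q = 0 ∨ q = p ∨ q = -p := by
  rw [Θ, Θ, K.ψ.commute_iff (K.pt_M hp hpp) (K.pt_M hq hqp), K.isom p q hp hq]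
  refine or_congr Iff.rfl (or_congr ⟨fun h => (K.M_inj he hq hp h), fun h => h ▸ rfl⟩
    ⟨fun h => K.M_inj he hq (by simp [hp]) (by rw [h, map_neg]), fun h => by rw [h, map_neg]⟩)

theorem exists_Θ {x : G} (hx : x ∈ perp D (C.φ e)) :
    ∃ p : F3 × V, S.B e p.2 = 0 ∧ S.ext.Pt p ∧ K.Θ p = x := by
  obtain ⟨v, hv, rfl⟩ := K.ψ.surj x hx
  obtain ⟨p, hp, rfl⟩ := K.surj v hv
  exact ⟨p, hp, by rw [OSpace.Pt, ← K.isom p p hp hp]; exact hv, rfl⟩

/-- The same chart at the opposite point. -/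
def neg (he : S.Pt e) : Chart C (-e) where
  ψ := K.ψ.cast (C.φ_neg he).symm
  M := K.M
  isom p q hp hq := K.isom p q (by simpa using hp) (by simpa using hq)
  top := K.top
  base a ha hea := K.base a ha (by simpa using hea)
  surj v hv := by
    obtain ⟨p, hp, h⟩ := K.surj v hv
    exact ⟨p, by simpa using hp, h⟩

theorem neg_Θ (he : S.Pt e) (p : F3 × V) : (K.neg he).Θ p = K.Θ p := rfl

end Chart

open Classical in
theorem exists_chart [Finite V] (hm : 5 ≤ finrank F3 V) (hG : IsThreeTranspositionGroup D)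
    (hcl : ∀ x ∈ D, ∃ g : G, g * d * g⁻¹ = x) (hd : d ∈ D) (C : Coord D S d) {e : V} (he : S.Pt e) :
    Nonempty (Chart C e) := by
  obtain ⟨hEd, hEne, hEc⟩ := C.mem e he
  obtain ⟨g, hg⟩ := hcl _ hEd
  set ψ : Coord D S (C.φ e) := (C.map hG g).cast hg
  obtain ⟨δ, hδ, hδd⟩ := ψ.surj d ⟨hd, hEne.symm, hEc.symm⟩
  set W := S.sub ![e] (S.gram_one' he)
  set W' := S.sub ![δ] (S.gram_one' hδ)
  have hex : ∀ a : ↥(S.perp ![e]), W.Pt a → ∃ v : ↥(S.perp ![δ]), W'.Pt v ∧ ψ.φ v = C.φ a := by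
    intro a ha
    have hea : S.B e a = 0 := by simpa using S.mem_perp.1 a.2 0
    obtain ⟨hne, hc⟩ := C.commute_orth he ha hea
    obtain ⟨v, hv, hvφ⟩ := ψ.surj _ ⟨(C.mem _ ha).1, hne, hc⟩
    have hδv : S.B δ v = 0 := ψ.orth_of_commute hδ hv (by rw [hvφ, hδd]; exact (C.mem _ ha).2.1)
      (by rw [hvφ, hδd]; exact (C.mem _ ha).2.2)
    exact ⟨⟨v, S.mem_perp.2 fun i => by rw [Subsingleton.elim i 0]; simpa using hδv⟩, hv, hvφ⟩
  set θ : ↥(S.perp ![e]) → ↥(S.perp ![δ]) := fun a => if ha : W.Pt a then (hex a ha).choose else 0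
  have hθ : ∀ a, W.Pt a → W'.Pt (θ a) ∧ ψ.φ (θ a) = C.φ a := fun a ha => by
    simp only [θ, dif_pos ha]; exact (hex a ha).choose_spec
  have hd1 : finrank F3 ↥(S.perp ![e]) + 1 = finrank F3 V := S.finrank_perp_frame _ (S.gram_one' he)
  have hd2 : finrank F3 ↥(S.perp ![δ]) + 1 = finrank F3 V := S.finrank_perp_frame _ (S.gram_one' hδ)
  obtain ⟨L, hL, hLθ⟩ := W.rigid W' (by omega) (by omega) θ (fun a ha => (hθ a ha).1)
    (fun a b ha hb => by
      constructor
      · intro h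
        obtain ⟨hne, hc⟩ := ψ.commute_orth (hθ a ha).1 (hθ b hb).1 h
        simp only [Submodule.coe_subtype] at hne hc
        rw [(hθ a ha).2, (hθ b hb).2] at hne hc
        exact C.orth_of_commute ha hb hne hc
      · intro h
        obtain ⟨hne, hc⟩ := C.commute_orth ha hb h
        simp only [Submodule.coe_subtype] at hne hc
        rw [← (hθ a ha).2, ← (hθ b hb).2] at hne hc
        exact ψ.orth_of_commute (hθ a ha).1 (hθ b hb).1 hne hc)
    (fun a b ha hb => by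
      have h1 := hθ _ (W.pt_refl ha hb)
      have e1 : ψ.φ (θ (W.refl a b) : V) = ψ.φ (W'.refl (θ a) (θ b) : V) := by
        rw [h1.2, OSpace.refl_sub, OSpace.refl_sub]
        exact (C.conj _ _ ha hb).symm.trans ((congrArg₂ (fun u v => u * v * u⁻¹) (hθ a ha).2.symm (hθ b hb).2.symm).trans
          (ψ.conj _ _ (hθ a ha).1 (hθ b hb).1))
      rcases (ψ.eq_iff _ _ h1.1 (W'.pt_refl (hθ a ha).1 (hθ b hb).1)).1 e1 with h | h
      · exact Or.inl (Subtype.ext h.symm)
      · exact Or.inr (neg_eq_iff_eq_neg.1 (Subtype.ext h.symm)))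
  have hproj : ∀ v, (LinearMap.id + (S.B e).smulRight e : V →ₗ[F3] V) v ∈ S.perp ![e] := fun v =>
    S.mem_perp.2 fun i => by
      rw [Subsingleton.elim i 0]
      simp [show S.B e e = -1 from he]
  set π : V →ₗ[F3] ↥(S.perp ![e]) := (LinearMap.id + (S.B e).smulRight e : V →ₗ[F3] V).codRestrict _ hproj
  have hπ : ∀ v, S.B e v = 0 → (π v : V) = v := fun v hv => by simp [π, hv]
  set M : F3 × V →ₗ[F3] V := (LinearMap.fst F3 F3 V).smulRight δ +
    (S.perp ![δ]).subtype.comp (L.comp (π.comp (LinearMap.snd F3 F3 V)))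
  have hM : ∀ p : F3 × V, M p = p.1 • δ + (L (π p.2) : V) := fun p => rfl
  have hδL : ∀ x, S.B δ (L x) = 0 := fun x => by simpa using S.mem_perp.1 (L x).2 0
  refine ⟨⟨ψ, M, fun p q hp hq => ?_, ?_, fun a ha hea => ?_, fun v hv => ?_⟩⟩
  · have hLL : S.B (L (π p.2) : V) (L (π q.2)) = S.B p.2 q.2 :=
      (hL (π p.2) (π q.2)).trans (by rw [OSpace.sub_apply, hπ _ hp, hπ _ hq])
    rw [hM, hM, S.ext_apply]
    simp only [map_add, map_smul, LinearMap.add_apply, LinearMap.smul_apply, smul_eq_mul, hδL,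
      S.symm _ δ, show S.B δ δ = -1 from hδ, hLL]
    ring
  · rw [hM]; simp [hδd]
  · have hπa : (π a : V) = a := hπ a hea
    have haW : W.Pt (π a) := by rw [OSpace.pt_sub, hπa]; exact ha
    rw [hM]
    simp only [zero_smul, zero_add]
    rw [← hπa, ← (hθ _ haW).2]
    refine ψ.φ_congr (hθ _ haW).1 ?_
    rw [hπa]
    rcases hLθ _ haW with h | h
    · exact Or.inl (by rw [h])
    · exact Or.inr (by rw [h, Submodule.coe_neg, neg_neg])
  · have hinj : Function.Injective L := by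
      rw [← LinearMap.ker_eq_bot, LinearMap.ker_eq_bot']
      exact fun x hx => W.nd x fun y => by rw [← hL, hx, map_zero]; rfl
    have hsur : Function.Surjective L :=
      (LinearMap.injective_iff_surjective_of_finrank_eq_finrank (by omega)).1 hinj
    set w : V := v + S.B δ v • δ
    have hw : w ∈ S.perp ![δ] := S.mem_perp.2 fun i => by
      rw [Subsingleton.elim i 0]; simp [w, show S.B δ δ = -1 from hδ]
    obtain ⟨u, hu⟩ := hsur ⟨w, hw⟩
    have hue : S.B e (u : V) = 0 := by simpa using S.mem_perp.1 u.2 0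
    refine ⟨(-S.B δ v, (u : V)), hue, ?_⟩
    rw [hM]
    have : π (u : V) = u := Subtype.ext (hπ _ hue)
    simp only [this, hu, w]
    module

end CfsgLib.FischerOrth
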