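import Cfsg.Agent.FischerOrth.Chart

/-!
# Charts under symmetries, and charts at orthogonal points

A symmetry carries one chart to another and two charts at orthogonal points agree on their overlap, in each case
up to one sign on the new coordinate.
-/

set_option autoImplicit false

namespace CfsgLib.FischerOrth

open Cfsg CfsgLib.FischerTypes Module

variable {G : Type*} [Group G] {D : Set G}
variable {V : Type*} [AddCommGroup V] [Module F3 V] {S : OSpace V} {d : G} {C : Coord D S d}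

namespace Chart

variable {e : V} (K : Chart C e)

theorem Θ_neg {p : F3 × V} (hp : S.B e p.2 = 0) (hpp : S.ext.Pt p) : K.Θ (-p) = K.Θ p := by
  rw [Θ, map_neg, K.ψ.φ_neg (K.pt_M hp hpp)]; rfl

theorem Θ_smul {p : F3 × V} (hp : S.B e p.2 = 0) (hpp : S.ext.Pt p) {σ : F3} (hσ : σ ≠ 0) :
    K.Θ (σ • p) = K.Θ p := by
  rcases f3_cases σ with rfl | rfl | rfl
  · exact absurd rfl hσ
  · rw [one_smul]
  · rw [neg_one_smul, K.Θ_neg hp hpp]

theorem neg_transport (he : S.Pt e) {e' : V} (h : e' = -e) (p : F3 × V) :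
    (h.symm ▸ K.neg he : Chart C e').Θ p = K.Θ p := by
  subst h; rfl

theorem ne_of_orth (he : S.Pt e) {p q : F3 × V} (hp : S.B e p.2 = 0) (hpp : S.ext.Pt p) (hq : S.B e q.2 = 0)
    (hqp : S.ext.Pt q) (h : S.ext.B p q = 0) : K.Θ q ≠ K.Θ p := fun hc => by
  have h1 : S.ext.B p p = -1 := hpp
  rcases (K.eq_iff he hq hqp hp hpp).1 hc with rfl | rfl
  · rw [h1] at h; exact absurd h (by decide)
  · simp only [map_neg, LinearMap.neg_apply, neg_neg, neg_eq_zero] at h h1
    rw [h] at h1; exact absurd h1 (by decide)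

theorem orth_iff (he : S.Pt e) {p q : F3 × V} (hp : S.B e p.2 = 0) (hpp : S.ext.Pt p) (hq : S.B e q.2 = 0)
    (hqp : S.ext.Pt q) : S.ext.B p q = 0 ↔ Commute (K.Θ p) (K.Θ q) ∧ K.Θ q ≠ K.Θ p := by
  refine ⟨fun h => ⟨(K.commute_iff he hp hpp hq hqp).2 (Or.inl h), K.ne_of_orth he hp hpp hq hqp h⟩,
    fun h => ((K.commute_iff he hp hpp hq hqp).1 h.1).resolve_right fun h' => h.2 ?_⟩
  exact ((K.eq_iff he hp hpp hq hqp).2 h').symm

end Chart

variable [Finite V]

/-- A map between parts of two charts is linear up to sign. -/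
theorem exists_transport {k : ℕ} (f f' : Fin (k + 1) → V) (hF : S.Frame f) (hF' : S.Frame f')
    (hk : k + 4 ≤ finrank F3 V) (he : S.Pt (f 0)) (he' : S.Pt (f' 0)) (K : Chart C (f 0)) (K' : Chart C (f' 0))
    (h : G) (hex : ∀ p : F3 × V, S.ext.Pt p → (∀ i, S.B (f i) p.2 = 0) →
      ∃ q : F3 × V, S.ext.Pt q ∧ (∀ i, S.B (f' i) q.2 = 0) ∧ K'.Θ q = h * K.Θ p * h⁻¹) :
    ∃ L : F3 × V →ₗ[F3] F3 × V,
      (∀ p q, (∀ i, S.B (f i) p.2 = 0) → (∀ i, S.B (f i) q.2 = 0) → S.ext.B (L p) (L q) = S.ext.B p q) ∧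
      ∀ p, S.ext.Pt p → (∀ i, S.B (f i) p.2 = 0) →
        (∀ i, S.B (f' i) (L p).2 = 0) ∧ K'.Θ (L p) = h * K.Θ p * h⁻¹ := by
  classical
  set W := S.ext.sub (fun i => ((0, f i) : F3 × V)) (S.frame_lift hF)
  set W' := S.ext.sub (fun i => ((0, f' i) : F3 × V)) (S.frame_lift hF')
  have hin : ∀ p : ↥(S.ext.perp fun i => ((0, f i) : F3 × V)), ∀ i, S.B (f i) (p : F3 × V).2 = 0 := fun p i => by
    simpa [S.ext_lift_left] using S.ext.mem_perp.1 p.2 i
  have hin' : ∀ q : F3 × V, (∀ i, S.B (f' i) q.2 = 0) → q ∈ S.ext.perp fun i => ((0, f' i) : F3 × V) :=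
    fun q hq => S.ext.mem_perp.2 fun i => by rw [S.ext_lift_left]; exact hq i
  set θ : ↥(S.ext.perp fun i => ((0, f i) : F3 × V)) → ↥(S.ext.perp fun i => ((0, f' i) : F3 × V)) :=
    fun p => if hp : S.ext.Pt (p : F3 × V) then ⟨_, hin' _ (hex _ hp (hin p)).choose_spec.2.1⟩ else 0
  have hθ : ∀ p, W.Pt p → S.ext.Pt (θ p : F3 × V) ∧ (∀ i, S.B (f' i) (θ p : F3 × V).2 = 0) ∧
      K'.Θ (θ p : F3 × V) = h * K.Θ (p : F3 × V) * h⁻¹ := fun p hp => by
    have hp' : S.ext.Pt (p : F3 × V) := hp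
    simp only [θ, dif_pos hp']
    exact (hex _ hp' (hin p)).choose_spec
  have hd1 := S.finrank_ext_perp f hF (S.frame_lift hF)
  have hd2 := S.finrank_ext_perp f' hF' (S.frame_lift hF')
  obtain ⟨L, hL, hLθ⟩ := W.rigid W' (by omega) (by omega) θ (fun p hp => (hθ p hp).1)
    (fun a b ha hb => by
      rw [OSpace.sub_apply, OSpace.sub_apply, K'.orth_iff he' ((hθ a ha).2.1 0) (hθ a ha).1 ((hθ b hb).2.1 0)
        (hθ b hb).1, K.orth_iff he (hin a 0) ha (hin b 0) hb, (hθ a ha).2.2, (hθ b hb).2.2]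
      exact and_congr (commute_conj_iff' h _ _)
        (not_congr ⟨fun e => mul_left_cancel (mul_right_cancel e), fun e => by rw [e]⟩))
    (fun a b ha hb => by
      have h1 := hθ _ (W.pt_refl ha hb)
      have h2 : K'.Θ (θ (W.refl a b) : F3 × V) = K'.Θ (W'.refl (θ a) (θ b) : F3 × V) := by
        rw [h1.2.2, OSpace.refl_sub, OSpace.refl_sub, ← K.conj (hin a 0) ha (hin b 0) hb,
          ← K'.conj ((hθ a ha).2.1 0) (hθ a ha).1 ((hθ b hb).2.1 0) (hθ b hb).1, (hθ a ha).2.2, (hθ b hb).2.2]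
        group
      have h3 : W'.Pt (W'.refl (θ a) (θ b)) := W'.pt_refl (hθ a ha).1 (hθ b hb).1
      have h4 : S.B (f' 0) (W'.refl (θ a) (θ b) : F3 × V).2 = 0 := by
        simpa [S.ext_lift_left] using S.ext.mem_perp.1 (W'.refl (θ a) (θ b)).2 0
      rcases (K'.eq_iff he' (h1.2.1 0) h1.1 h4 h3).1 h2 with h | h
      · exact Or.inl (Subtype.ext h.symm)
      · exact Or.inr (neg_eq_iff_eq_neg.1 (Subtype.ext h.symm)))
  obtain ⟨L', hL'⟩ := LinearMap.exists_extend
    ((S.ext.perp fun i => ((0, f' i) : F3 × V)).subtype.comp L)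
  have hL'' : ∀ p : ↥(S.ext.perp fun i => ((0, f i) : F3 × V)), L' (p : F3 × V) = (L p : F3 × V) := fun p =>
    LinearMap.congr_fun hL' p
  have hmem : ∀ p : F3 × V, (∀ i, S.B (f i) p.2 = 0) → p ∈ S.ext.perp fun i => ((0, f i) : F3 × V) :=
    fun p hp => S.ext.mem_perp.2 fun i => by rw [S.ext_lift_left]; exact hp i
  refine ⟨L', fun p q hp hq => ?_, fun p hpp hp => ?_⟩
  · rw [show L' p = (L ⟨p, hmem p hp⟩ : F3 × V) from hL'' ⟨p, hmem p hp⟩,
      show L' q = (L ⟨q, hmem q hq⟩ : F3 × V) from hL'' ⟨q, hmem q hq⟩]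
    exact hL _ _
  · rw [show L' p = (L ⟨p, hmem p hp⟩ : F3 × V) from hL'' ⟨p, hmem p hp⟩]
    obtain ⟨h1, h2, h3⟩ := hθ ⟨p, hmem p hp⟩ hpp
    rcases hLθ ⟨p, hmem p hp⟩ hpp with e | e
    · rw [show ((L ⟨p, hmem p hp⟩) : F3 × V) = θ ⟨p, hmem p hp⟩ by rw [e]]
      exact ⟨h2, h3⟩
    · rw [show ((L ⟨p, hmem p hp⟩) : F3 × V) = -(θ ⟨p, hmem p hp⟩ : F3 × V) by rw [e, Submodule.coe_neg, neg_neg]]
      exact ⟨fun i => by simp [h2 i], by rw [K'.Θ_neg (h2 0) h1]; exact h3⟩

omit [Finite V] in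
/-- From one sign on the old coordinates to one sign on the new one. -/
theorem exists_eps {k : ℕ} (f : Fin (k + 1) → V) {e' : V} (K : Chart C (f 0)) (K' : Chart C e') (he' : S.Pt e')
    (h : G) (hd : h * d * h⁻¹ = d) (T : V →ₗ[F3] V) (hT : ∀ x y, S.B (T x) (T y) = S.B x y)
    (hTe : ∀ v, (∀ i, S.B (f i) v = 0) → S.B e' (T v) = 0)
    (L : F3 × V →ₗ[F3] F3 × V)
    (hL : ∀ p, S.ext.Pt p → (∀ i, S.B (f i) p.2 = 0) →
      S.ext.Pt (L p) ∧ S.B e' (L p).2 = 0 ∧ K'.Θ (L p) = h * K.Θ p * h⁻¹)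
    (σ : F3) (hσ : σ ≠ 0) (hLσ : ∀ v, (∀ i, S.B (f i) v = 0) → L (0, v) = σ • ((0, T v) : F3 × V)) :
    ∃ ε : F3, ε ≠ 0 ∧ ∀ p : F3 × V, S.ext.Pt p → (∀ i, S.B (f i) p.2 = 0) →
      S.ext.Pt (ε * p.1, T p.2) ∧ S.B e' (T p.2) = 0 ∧ K'.Θ (ε * p.1, T p.2) = h * K.Θ p * h⁻¹ := by
  obtain ⟨h1, h2, h3⟩ := hL (1, 0) S.pt_top (by simp)
  rw [K.Θ_top, hd] at h3
  replace h3 := h3.trans K'.Θ_top.symm
  obtain ⟨ε, hε, hLd⟩ : ∃ ε : F3, ε ≠ 0 ∧ L (1, 0) = (ε, 0) := by
    rcases (K'.eq_iff he' h2 h1 (by simp) S.pt_top).1 h3 with e | e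
    · exact ⟨1, one_ne_zero, e.symm⟩
    · exact ⟨-1, by decide, by rw [← neg_eq_iff_eq_neg.2 e]; simp⟩
  refine ⟨σ * ε, mul_ne_zero hσ hε, fun p hpp hp => ?_⟩
  have hpt : S.ext.Pt (σ * ε * p.1, T p.2) := by
    have h1 : S.ext.B p p = -1 := hpp
    rw [OSpace.Pt, S.ext_apply, hT]
    rw [S.ext_apply] at h1
    linear_combination h1 - (p.1 * p.1 * (σ * σ)) * f3_sq hε - (p.1 * p.1) * f3_sq hσ
  refine ⟨hpt, hTe _ hp, ?_⟩
  have hLp : L p = σ • ((σ * ε * p.1, T p.2) : F3 × V) := by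
    calc L p = L (p.1 • ((1, 0) : F3 × V) + (0, p.2)) := by congr 1; ext <;> simp
      _ = p.1 • ((ε, 0) : F3 × V) + σ • (0, T p.2) := by rw [map_add, map_smul, hLd, hLσ _ hp]
      _ = _ := by
        ext
        · simp only [Prod.fst_add, Prod.smul_fst, smul_eq_mul, mul_zero, add_zero]
          linear_combination (-(ε * p.1)) * f3_sq hσ
        · simp
  rw [← (hL p hpp hp).2.2, hLp, K'.Θ_smul (hTe _ hp) hpt hσ]

/-- Charts under a symmetry. -/
theorem exists_equivariant (hm : 5 ≤ finrank F3 V) (hG : IsThreeTranspositionGroup D) (g : C.Sym) {e : V}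
    (he : S.Pt e) (K : Chart C e) (K' : Chart C (g.T e)) :
    ∃ ε : F3, ε ≠ 0 ∧ ∀ p : F3 × V, S.ext.Pt p → S.B e p.2 = 0 →
      g.h * K.Θ p * g.h⁻¹ = K'.Θ (ε * p.1, g.T p.2) := by
  have he' : S.Pt (g.T e) := g.pt he
  have hone : ∀ v : V, (∀ i, S.B (![e] i) v = 0) ↔ S.B e v = 0 := fun v =>
    ⟨fun h => h 0, fun h i => by rw [Subsingleton.elim i 0]; exact h⟩
  obtain ⟨L, hLi, hL⟩ := exists_transport ![e] ![g.T e] (S.gram_one' he) (S.gram_one' he') (by omega) he he'
    K K' g.h (fun p hpp hp => by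
      obtain ⟨h1, h2, h3⟩ := K.mem (hp 0) hpp
      obtain ⟨q, hq, hqq, e1⟩ := K'.exists_Θ (x := g.h * K.Θ p * g.h⁻¹) ⟨hG.2.1 _ _ h1, fun h =>
        h2 (mul_left_cancel (mul_right_cancel (h.trans (g.act e he).symm))), by
          rw [← g.act e he]; exact (commute_conj_iff' _ _ _).2 h3⟩
      exact ⟨q, hqq, fun i => by fin_cases i; exact hq, e1⟩)
  replace hL : ∀ p, S.ext.Pt p → (∀ i, S.B (![e] i) p.2 = 0) →
      (∀ i, S.B (![g.T e] i) (L p).2 = 0) ∧ K'.Θ (L p) = g.h * K.Θ p * g.h⁻¹ := hL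
  have hLpt : ∀ p, S.ext.Pt p → (∀ i, S.B (![e] i) p.2 = 0) → S.ext.Pt (L p) := fun p hpp hp => by
    rw [OSpace.Pt, hLi p p hp hp]; exact hpp
  set W := S.sub ![e] (S.gram_one' he)
  have hd1 : finrank F3 ↥(S.perp ![e]) + 1 = finrank F3 V := S.finrank_perp_frame _ (S.gram_one' he)
  set L1 : ↥(S.perp ![e]) →ₗ[F3] F3 × V := (LinearMap.inr F3 F3 V).comp (g.T.comp (S.perp ![e]).subtype)
  set L2 : ↥(S.perp ![e]) →ₗ[F3] F3 × V := L.comp ((LinearMap.inr F3 F3 V).comp (S.perp ![e]).subtype)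
  have hu := W.unique_up_to_sign S.ext (by omega) L1 L2
    (fun x y => by simp [L1, W, S.ext_lift, g.isom, OSpace.sub_apply])
    (fun x y => by
      simp only [L2, LinearMap.comp_apply, LinearMap.inr_apply, Submodule.coe_subtype]
      rw [hLi _ _ (S.mem_perp.1 x.2) (S.mem_perp.1 y.2), S.ext_lift]; rfl)
    (fun a ha => by
      have hea : ∀ i, S.B (![e] i) (a : V) = 0 := S.mem_perp.1 a.2
      have hp : S.ext.Pt ((0, (a : V)) : F3 × V) := S.pt_lift.2 ha
      obtain ⟨hL1, hL2⟩ := hL _ hp hea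
      rw [K.Θ_base (a := (a : V)) ha (hea 0), g.act (a : V) ha, ← K'.Θ_base (a := g.T (a : V)) (g.pt ha) (by
        show S.B (g.T e) (g.T a) = 0
        rw [g.isom]; exact hea 0)] at hL2
      rcases (K'.eq_iff he' (hL1 0) (hLpt _ hp hea) (by show S.B (g.T e) (g.T a) = 0; rw [g.isom]; exact hea 0)
        (S.pt_lift.2 (g.pt ha))).1 hL2 with e1 | e1
      · exact Or.inl e1.symm
      · exact Or.inr (neg_eq_iff_eq_neg.2 e1).symm)
  obtain ⟨σ, hσ, hLσ⟩ : ∃ σ : F3, σ ≠ 0 ∧ ∀ v, (∀ i, S.B (![e] i) v = 0) →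
      L (0, v) = σ • ((0, g.T v) : F3 × V) := by
    rcases hu with h | h
    · exact ⟨1, one_ne_zero, fun v hv => by
        simpa [L1, L2] using LinearMap.congr_fun h ⟨v, S.mem_perp.2 hv⟩⟩
    · exact ⟨-1, by decide, fun v hv => by
        simpa [L1, L2] using LinearMap.congr_fun h ⟨v, S.mem_perp.2 hv⟩⟩
  obtain ⟨ε, hε, hp⟩ := exists_eps ![e] K K' he' g.h g.fix g.T g.isom
    (fun v hv => by rw [g.isom]; exact hv 0) L
    (fun p hpp hp => ⟨hLpt p hpp hp, (hL p hpp hp).1 0, (hL p hpp hp).2⟩) σ hσ hLσ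
  exact ⟨ε, hε, fun p hpp hp' => ((hp p hpp ((hone _).2 hp')).2.2).symm⟩

/-- The standard product on five coordinates. -/
def dot5 (u x : Fin 5 → F3) : F3 := ∑ i, u i * x i

/-- The standard reflection on five coordinates. -/
def rstd5 (u x : Fin 5 → F3) : Fin 5 → F3 := x + dot5 u x • u

/-- On five orthogonal points, a symmetry reversing two and permuting the others cyclically. -/
theorem exists_cyc (C : Coord D S d) (v : Fin 5 → V) (hv : ∀ i j, S.B (v i) (v j) = if i = j then -1 else 0) :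
    ∃ g : C.Sym, g.T (v 0) = -v 0 ∧ g.T (v 1) = -v 1 ∧ g.T (v 2) = v 3 ∧ g.T (v 3) = v 4 ∧ g.T (v 4) = v 2 := by
  set Φ : (Fin 5 → F3) →ₗ[F3] V := Fintype.linearCombination F3 v
  have hΦ : ∀ c, Φ c = ∑ i, c i • v i := fun c => Fintype.linearCombination_apply F3 v c
  have hB : ∀ u x, S.B (Φ u) (Φ x) = -dot5 u x := fun u x => by
    simp only [hΦ, dot5, map_sum, map_smul, LinearMap.sum_apply, LinearMap.smul_apply, smul_eq_mul, hv]
    simp [mul_ite, mul_comm]
  have hr : ∀ u x, S.refl (Φ u) (Φ x) = Φ (rstd5 u x) := fun u x => by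
    rw [OSpace.refl, hB, rstd5, map_add, map_smul, neg_smul, sub_neg_eq_add]
  have hp : ∀ u, dot5 u u = 1 → S.Pt (Φ u) := fun u hu => by rw [OSpace.Pt, hB, hu]
  let g : C.Sym := (Coord.Sym.reflSym C (hp ![1, 1, 2, 0, 1] (by decide))).comp
    ((Coord.Sym.reflSym C (hp ![1, 1, 0, 1, 2] (by decide))).comp
      ((Coord.Sym.reflSym C (hp ![1, 0, 1, 1, 1] (by decide))).comp
        (Coord.Sym.reflSym C (hp ![0, 1, 1, 1, 1] (by decide)))))
  have hT : ∀ x, g.T (Φ x) = Φ (rstd5 ![1, 1, 2, 0, 1] (rstd5 ![1, 1, 0, 1, 2]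
      (rstd5 ![1, 0, 1, 1, 1] (rstd5 ![0, 1, 1, 1, 1] x)))) := fun x => by
    simp only [g, Coord.Sym.comp, LinearMap.comp_apply]
    simp only [Coord.Sym.reflSym_T, hr]
  have hs : ∀ i, Φ (Pi.single i 1) = v i := fun i => by
    rw [hΦ]; simp [Pi.single_apply, ite_smul]
  refine ⟨g, ?_, ?_, ?_, ?_, ?_⟩ <;> rw [← hs, hT]
  · rw [← map_neg]; exact congrArg Φ (by decide)
  · rw [← map_neg]; exact congrArg Φ (by decide)
  · rw [← hs 3]; exact congrArg Φ (by decide)
  · rw [← hs 4]; exact congrArg Φ (by decide)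
  · rw [← hs 2]; exact congrArg Φ (by decide)

/-- Charts at two orthogonal points. -/
theorem exists_compat (hm : 5 ≤ finrank F3 V) (hG : IsThreeTranspositionGroup D) {e f : V} (he : S.Pt e)
    (hf : S.Pt f) (hef : S.B e f = 0) (Ke : Chart C e) (Kf : Chart C f) :
    ∃ ε : F3, ε ≠ 0 ∧ ∀ p : F3 × V, S.ext.Pt p → S.B e p.2 = 0 → S.B f p.2 = 0 →
      Ke.Θ p = Kf.Θ (ε * p.1, p.2) := by
  have hfe : S.B f e = 0 := by rw [S.symm]; exact hef
  have htwo : ∀ v : V, (∀ i, S.B (![e, f] i) v = 0) ↔ S.B e v = 0 ∧ S.B f v = 0 := fun v => by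
    simp [Fin.forall_fin_two]
  have htwo' : ∀ v : V, (∀ i, S.B (![f, e] i) v = 0) ↔ S.B f v = 0 ∧ S.B e v = 0 := fun v => by
    simp [Fin.forall_fin_two]
  have hefp : S.ext.Pt ((0, f) : F3 × V) := S.pt_lift.2 hf
  have hfep : S.ext.Pt ((0, e) : F3 × V) := S.pt_lift.2 he
  obtain ⟨L, hLi, hL⟩ := exists_transport ![e, f] ![f, e] (S.gram_two' he hf hef) (S.gram_two' hf he hfe)
    (by omega) he hf Ke Kf 1 (fun p hpp hp => by
      obtain ⟨hp1, hp2⟩ := (htwo _).1 hp
      obtain ⟨h1, h2⟩ := (Ke.orth_iff he hef hefp hp1 hpp).1 (by rw [S.ext_lift_left]; exact hp2)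
      rw [Ke.Θ_base hf hef] at h1 h2
      obtain ⟨q, hq, hqq, e1⟩ := Kf.exists_Θ (x := Ke.Θ p) ⟨(Ke.mem hp1 hpp).1, h2, h1⟩
      refine ⟨q, hqq, (htwo' _).2 ⟨hq, ?_⟩, e1.trans (by rw [one_mul, inv_one, mul_one]; rfl)⟩
      have := (Kf.orth_iff hf hfe hfep hq hqq).2
        (by rw [Kf.Θ_base he hfe, e1]; exact ⟨(Ke.mem hp1 hpp).2.2, (Ke.mem hp1 hpp).2.1⟩)
      rwa [S.ext_lift_left] at this)
  replace hL : ∀ p, S.ext.Pt p → (∀ i, S.B (![e, f] i) p.2 = 0) →
      (∀ i, S.B (![f, e] i) (L p).2 = 0) ∧ Kf.Θ (L p) = 1 * Ke.Θ p * 1⁻¹ := hL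
  have hLpt : ∀ p, S.ext.Pt p → (∀ i, S.B (![e, f] i) p.2 = 0) → S.ext.Pt (L p) := fun p hpp hp => by
    rw [OSpace.Pt, hLi p p hp hp]; exact hpp
  have hsgn : ∀ a, S.Pt a → S.B e a = 0 → S.B f a = 0 →
      ∃ τ : F3, τ ≠ 0 ∧ L (0, a) = τ • ((0, a) : F3 × V) := fun a ha h1 h2 => by
    have hp : S.ext.Pt ((0, a) : F3 × V) := S.pt_lift.2 ha
    have hv := (htwo a).2 ⟨h1, h2⟩
    obtain ⟨hL1, hL2⟩ := hL _ hp hv
    rw [Ke.Θ_base ha h1, one_mul, inv_one, mul_one, ← Kf.Θ_base ha h2] at hL2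
    rcases (Kf.eq_iff hf (hL1 0) (hLpt _ hp hv) h2 hp).1 hL2 with e1 | e1
    · exact ⟨1, one_ne_zero, by rw [one_smul]; exact e1.symm⟩
    · exact ⟨-1, by decide, by rw [neg_one_smul]; exact (neg_eq_iff_eq_neg.2 e1).symm⟩
  have hd2 : finrank F3 ↥(S.perp ![e, f]) + 2 = finrank F3 V :=
    S.finrank_perp_frame _ (S.gram_two' he hf hef)
  obtain ⟨σ, hσ, hLσ⟩ : ∃ σ : F3, σ ≠ 0 ∧ ∀ v, (∀ i, S.B (![e, f] i) v = 0) →
      L (0, v) = σ • ((0, v) : F3 × V) := by
    by_cases h6 : 6 ≤ finrank F3 V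
    · set W := S.sub ![e, f] (S.gram_two' he hf hef)
      set L1 : ↥(S.perp ![e, f]) →ₗ[F3] F3 × V := (LinearMap.inr F3 F3 V).comp (S.perp ![e, f]).subtype
      set L2 : ↥(S.perp ![e, f]) →ₗ[F3] F3 × V := L.comp L1
      have hu := W.unique_up_to_sign S.ext (by omega) L1 L2
        (fun x y => by simp [L1, W, S.ext_lift, OSpace.sub_apply])
        (fun x y => by
          simp only [L1, L2, LinearMap.comp_apply, LinearMap.inr_apply, Submodule.coe_subtype]
          rw [hLi _ _ (S.mem_perp.1 x.2) (S.mem_perp.1 y.2), S.ext_lift]; rfl)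
        (fun a ha => by
          obtain ⟨h1, h2⟩ := (htwo _).1 (S.mem_perp.1 a.2)
          obtain ⟨τ, hτ, e1⟩ := hsgn _ ha h1 h2
          rcases f3_cases τ with rfl | rfl | rfl
          · exact absurd rfl hτ
          · exact Or.inl (by simpa [L1, L2] using e1)
          · exact Or.inr (by simpa [L1, L2] using e1))
      rcases hu with h | h
      · exact ⟨1, one_ne_zero, fun v hv => by
          simpa [L1, L2] using LinearMap.congr_fun h ⟨v, S.mem_perp.2 hv⟩⟩
      · exact ⟨-1, by decide, fun v hv => by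
          simpa [L1, L2] using LinearMap.congr_fun h ⟨v, S.mem_perp.2 hv⟩⟩
    · -- a space of dimension five
      have h5 : finrank F3 V = 5 := by omega
      obtain ⟨a, ha', ha⟩ := S.exists_pt ![e, f] ![e, f] (fun i => OSpace.mem_span_range _ i)
        (S.gram_two' he hf hef) (by omega)
      obtain ⟨hea, hfa⟩ := (htwo a).1 ha'
      obtain ⟨b, hb', hb⟩ := S.exists_pt ![e, f, a] ![e, f, a] (fun i => OSpace.mem_span_range _ i)
        (fun c hc => by
          have e0 := hc 0; have e1 := hc 1; have e2 := hc 2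
          simp only [Fin.sum_univ_three, Matrix.cons_val_zero, Matrix.cons_val_one, Matrix.cons_val_two,
            Matrix.head_cons, Matrix.tail_cons, show S.B e e = -1 from he, show S.B f f = -1 from hf,
            show S.B a a = -1 from ha, hef, hfe, hea, hfa, S.symm a e, S.symm a f, mul_zero, add_zero, zero_add,
            mul_neg, mul_one, neg_eq_zero] at e0 e1 e2
          funext i; fin_cases i <;> assumption)
        (by omega)
      have heb : S.B e b = 0 := hb' 0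
      have hfb : S.B f b = 0 := hb' 1
      have hab : S.B a b = 0 := hb' 2
      have hae : S.B a e = 0 := by rw [S.symm]; exact hea
      have haf : S.B a f = 0 := by rw [S.symm]; exact hfa
      have hbe : S.B b e = 0 := by rw [S.symm]; exact heb
      have hbf : S.B b f = 0 := by rw [S.symm]; exact hfb
      have hba : S.B b a = 0 := by rw [S.symm]; exact hab
      have hee : S.B e e = -1 := he
      have hff : S.B f f = -1 := hf
      have haa : S.B a a = -1 := ha
      have hbb : S.B b b = -1 := hb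
      have hF4 : ∀ c : Fin 4 → F3, (∀ i, ∑ l, c l * S.B (![e, f, a, b] l) (![e, f, a, b] i) = 0) → c = 0 :=
        fun c hc => by
          have e0 := hc 0; have e1 := hc 1; have e2 := hc 2; have e3 := hc 3
          simp [Fin.sum_univ_four, hee, hff, haa, hbb, hef, hfe, hea, hfa, hae, haf, heb, hfb, hab, hbe, hbf,
            hba] at e0 e1 e2 e3
          funext i; fin_cases i <;> assumption
      have hd4 := S.finrank_perp_frame ![e, f, a, b] hF4
      obtain ⟨c, hc', hcc⟩ : ∃ c ∈ S.perp ![e, f, a, b], S.B c c ≠ 0 :=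
        S.exists_aniso ![e, f, a, b] ![e, f, a, b] (fun i => OSpace.mem_span_range _ i) hF4 (by omega)
      have hec : S.B e c = 0 := S.mem_perp.1 hc' 0
      have hfc : S.B f c = 0 := S.mem_perp.1 hc' 1
      have hac : S.B a c = 0 := S.mem_perp.1 hc' 2
      have hbc : S.B b c = 0 := S.mem_perp.1 hc' 3
      have hce : S.B c e = 0 := by rw [S.symm]; exact hec
      have hcf : S.B c f = 0 := by rw [S.symm]; exact hfc
      have hca : S.B c a = 0 := by rw [S.symm]; exact hac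
      have hcb : S.B c b = 0 := by rw [S.symm]; exact hbc
      obtain ⟨σa, hσa, hLa⟩ := hsgn a ha hea hfa
      obtain ⟨σb, hσb, hLb⟩ := hsgn b hb heb hfb
      obtain ⟨σc, hσc, hLc, hab', hac'⟩ : ∃ σc : F3, σc ≠ 0 ∧ L (0, c) = σc • ((0, c) : F3 × V) ∧
          σa = σc ∧ σb = σc := by
        rcases f3_cases (S.B c c) with h0 | h1 | h1
        · exact absurd h0 hcc
        · -- the sums of three are points
          have hval : ∀ x y z : F3, x ≠ 0 → y ≠ 0 → z ≠ 0 → ∃ τ : F3, τ ≠ 0 ∧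
              x • L (0, a) + y • L (0, b) + z • L (0, c) = τ • ((0, x • a + y • b + z • c) : F3 × V) :=
            fun x y z hx hy hz => by
              obtain ⟨τ, hτ, e1⟩ := hsgn (x • a + y • b + z • c) (by
                simp only [OSpace.Pt, map_add, map_smul, LinearMap.add_apply, LinearMap.smul_apply, smul_eq_mul,
                  haa, hbb, h1, hab, hba, hac, hca, hbc, hcb]
                linear_combination (-1 : F3) * f3_sq hx - f3_sq hy + f3_sq hz)
                (by simp [hea, heb, hec]) (by simp [hfa, hfb, hfc])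
              refine ⟨τ, hτ, ?_⟩
              rw [← e1, ← map_smul, ← map_smul, ← map_smul, ← map_add, ← map_add]
              congr 1 <;> simp
          obtain ⟨τ, hτ, e1⟩ := hval 1 1 1 one_ne_zero one_ne_zero one_ne_zero
          obtain ⟨τ₁, hτ₁, e2⟩ := hval (-1) 1 1 (by decide) one_ne_zero one_ne_zero
          obtain ⟨τ₂, hτ₂, e3⟩ := hval 1 (-1) 1 one_ne_zero (by decide) one_ne_zero
          rw [hLa, hLb] at e1 e2 e3
          -- compare the coefficients by pairing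
          have pa := congrArg (fun p : F3 × V => S.B a p.2) e1
          have pb := congrArg (fun p : F3 × V => S.B b p.2) e1
          have qa := congrArg (fun p : F3 × V => S.B a p.2) e2
          have qb := congrArg (fun p : F3 × V => S.B b p.2) e2
          have ra := congrArg (fun p : F3 × V => S.B a p.2) e3
          have rb := congrArg (fun p : F3 × V => S.B b p.2) e3
          simp only [Prod.snd_add, Prod.smul_snd, map_add, map_smul, smul_eq_mul, haa, hbb, hab, hba, hac,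
            hbc, mul_zero, add_zero, zero_add, one_mul] at pa pb qa qb ra rb
          have key : ∀ σa σb A B τ τ₁ τ₂ : F3, σa * -1 + A = τ * -1 → σb * -1 + B = τ * -1 →
              -1 * (σa * -1) + A = τ₁ * (-1 * -1) → σb * -1 + B = τ₁ * -1 → σa * -1 + A = τ₂ * -1 →
              -1 * (σb * -1) + B = τ₂ * (-1 * -1) → σa = τ ∧ σb = τ := by decide
          obtain ⟨ka, kb⟩ := key _ _ _ _ _ _ _ pa pb qa qb ra rb
          refine ⟨τ, hτ, ?_, ka, kb⟩
          rw [one_smul, one_smul, one_smul, ka, kb] at e1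
          have : L (0, c) = τ • ((0, a + b + c) : F3 × V) - τ • (0, a) - τ • (0, b) := by
            rw [show ((0, a + b + c) : F3 × V) = (0, (1 : F3) • a + (1 : F3) • b + (1 : F3) • c) by simp]
            rw [← e1]; abel
          rw [this, ← smul_sub, ← smul_sub]
          congr 1
          ext
          · simp
          · simp only [Prod.snd_sub]; abel
        · -- five orthogonal points
          obtain ⟨σc, hσc, hLc⟩ := hsgn c h1 hec hfc
          have hv : ∀ i j, S.B (![e, f, a, b, c] i) (![e, f, a, b, c] j) = if i = j then -1 else 0 := by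
            intro i j
            fin_cases i <;> fin_cases j <;>
              simp [hee, hff, haa, hbb, h1, hef, hfe, hea, hfa, hae, haf, heb, hfb, hab, hbe, hbf, hba, hec, hfc,
                hac, hbc, hce, hcf, hca, hcb]
          obtain ⟨g, g0, g1, g2, g3, g4⟩ := exists_cyc C ![e, f, a, b, c] hv
          replace g0 : g.T e = -e := g0
          replace g1 : g.T f = -f := g1
          replace g2 : g.T a = b := g2
          replace g3 : g.T b = c := g3
          replace g4 : g.T c = a := g4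
          obtain ⟨εe, hεe, Ee⟩ := exists_equivariant hm hG g he Ke
            (g0.symm ▸ Ke.neg he)
          obtain ⟨εf, hεf, Ef⟩ := exists_equivariant hm hG g hf Kf
            (g1.symm ▸ Kf.neg hf)
          have Ee' : ∀ p : F3 × V, S.ext.Pt p → S.B e p.2 = 0 →
              g.h * Ke.Θ p * g.h⁻¹ = Ke.Θ (εe * p.1, g.T p.2) := by
            intro p hp hp'
            rw [Ee p hp hp']
            exact Chart.neg_transport Ke he g0 _
          have Ef' : ∀ p : F3 × V, S.ext.Pt p → S.B f p.2 = 0 →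
              g.h * Kf.Θ p * g.h⁻¹ = Kf.Θ (εf * p.1, g.T p.2) := by
            intro p hp hp'
            rw [Ef p hp hp']
            exact Chart.neg_transport Kf hf g1 _
          set v : V := a + b + c with hv'
          have hvv : S.B v v = 0 := by
            simp only [v, map_add, LinearMap.add_apply, haa, hbb, h1, hab, hba, hac, hca, hbc, hcb]; decide
          have hve : S.B e v = 0 ∧ S.B f v = 0 := by simp [v, hea, heb, hec, hfa, hfb, hfc]
          have hTv : g.T v = v := by simp only [v, map_add, g2, g3, g4]; abel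
          have hpt : ∀ α : F3, α ≠ 0 → S.ext.Pt ((α, v) : F3 × V) := fun α hα => by
            rw [OSpace.Pt, S.ext_apply, hvv, add_zero, f3_sq hα]
          obtain ⟨h1', h2', h3'⟩ : S.ext.Pt (L (1, 0)) ∧ S.B f (L (1, 0)).2 = 0 ∧ Kf.Θ (L (1, 0)) = Kf.Θ (1, 0) :=
            ⟨hLpt _ S.pt_top (by simp), ((hL _ S.pt_top (by simp)).1 0), by
              rw [(hL _ S.pt_top (by simp)).2, Ke.Θ_top, Kf.Θ_top]; group⟩
          obtain ⟨ε₀, hε₀, hLd⟩ : ∃ ε : F3, ε ≠ 0 ∧ L (1, 0) = (ε, 0) := by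
            rcases (Kf.eq_iff hf h2' h1' (by simp) S.pt_top).1 h3' with e1 | e1
            · exact ⟨1, one_ne_zero, e1.symm⟩
            · exact ⟨-1, by decide, by rw [← neg_eq_iff_eq_neg.2 e1]; simp⟩
          set u : V := σa • a + σb • b + σc • c with hu'
          have hLv : ∀ α : F3, L (α, v) = (α * ε₀, u) := fun α => by
            rw [show ((α, v) : F3 × V) = α • ((1, 0) : F3 × V) + (0, a) + (0, b) + (0, c) by ext <;> simp [v],
              map_add, map_add, map_add, map_smul, hLd, hLa, hLb, hLc]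
            ext <;> simp [u]
          have hΘ : ∀ α : F3, α ≠ 0 → S.ext.Pt ((α * ε₀, u) : F3 × V) ∧ S.B f u = 0 ∧
              Kf.Θ (α * ε₀, u) = Ke.Θ (α, v) := fun α hα => by
            have hh := hL (α, v) (hpt α hα) ((htwo v).2 hve)
            have hh' := hLpt (α, v) (hpt α hα) ((htwo v).2 hve)
            rw [hLv] at hh hh'
            refine ⟨hh', hh.1 0, by rw [hh.2]; group⟩
          obtain ⟨k1, k2, k3⟩ := hΘ 1 one_ne_zero
          obtain ⟨l1, l2, l3⟩ := hΘ εe hεe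
          have hEf := Ef' _ k1 k2
          rw [k3, Ee' _ (hpt 1 one_ne_zero) hve.1, hTv, mul_one, ← l3, one_mul] at hEf
          have hfu : S.B f (g.T u) = 0 := by simp [u, g2, g3, g4, hfa, hfb, hfc]
          have hup : S.ext.Pt ((εf * ε₀, g.T u) : F3 × V) := by
            rw [OSpace.Pt, S.ext_apply, g.isom]
            have := k1
            rw [OSpace.Pt, S.ext_apply, one_mul] at this
            linear_combination this - ε₀ * ε₀ * f3_sq hεf
          have key : ∀ x y z κ : F3, x ≠ 0 → z * -1 = κ * (x * -1) → x * -1 = κ * (y * -1) →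
              y * -1 = κ * (z * -1) → κ ≠ 0 → x = z ∧ y = z := by decide
          have fin : ∀ κ : F3, κ ≠ 0 → g.T u = κ • u → σa = σc ∧ σb = σc := fun κ hκ hk => by
            have qa := congrArg (S.B a) hk
            have qb := congrArg (S.B b) hk
            have qc := congrArg (S.B c) hk
            simp only [u, map_add, map_smul, g2, g3, g4, smul_eq_mul, haa, hbb, h1, hab, hba, hac, hca, hbc, hcb,
              mul_zero, add_zero, zero_add] at qa qb qc
            exact key _ _ _ κ hσa qa qb qc hκ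
          refine ⟨σc, hσc, hLc, ?_⟩
          rcases (Kf.eq_iff hf l2 l1 hfu hup).1 hEf with e1 | e1
          · exact fin 1 one_ne_zero (by rw [one_smul]; exact congrArg Prod.snd e1)
          · exact fin (-1) (by decide) (by rw [neg_one_smul]; exact congrArg Prod.snd e1)
      refine ⟨σc, hσc, fun v hv => ?_⟩
      obtain ⟨h1, h2⟩ := (htwo v).1 hv
      set r : V := v + S.B a v • a + S.B b v • b - (S.B c v / S.B c c) • c with hr
      have hr0 : r = 0 := by
        have hd5 := S.finrank_perp_frame ![e, f, a, b, c] (fun x hx => by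
          have e0 := hx 0; have e1 := hx 1; have e2 := hx 2; have e3 := hx 3; have e4 := hx 4
          simp [Fin.sum_univ_five, hee, hff, haa, hbb, hef, hfe, hea, hfa, hae, haf, heb, hfb, hab, hbe, hbf,
            hba, hec, hfc, hac, hbc, hce, hcf, hca, hcb, hcc] at e0 e1 e2 e3 e4
          funext i; fin_cases i <;> assumption)
        have hmem : r ∈ S.perp ![e, f, a, b, c] := S.mem_perp.2 fun i => by
          fin_cases i <;>
            simp [r, h1, h2, haa, hbb, hea, hfa, heb, hfb, hab, hba, hec, hfc, hac, hbc, hca, hcb, hcc]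
        rw [show finrank F3 V = 5 from h5] at hd5
        have : S.perp ![e, f, a, b, c] = ⊥ := Submodule.finrank_eq_zero.1 (by omega)
        rwa [this, Submodule.mem_bot] at hmem
      have hvv : v = -(S.B a v) • a + -(S.B b v) • b + (S.B c v / S.B c c) • c := by
        rw [← sub_eq_zero, ← hr0]; simp only [r, neg_smul]; abel
      rw [hvv]
      rw [show ((0, -(S.B a v) • a + -(S.B b v) • b + (S.B c v / S.B c c) • c) : F3 × V) =
        -(S.B a v) • ((0, a) : F3 × V) + -(S.B b v) • (0, b) + (S.B c v / S.B c c) • (0, c) by ext <;> simp,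
        map_add, map_add, map_smul, map_smul, map_smul, hLa, hLb, hLc, hab', hac', smul_add, smul_add,
        smul_comm σc, smul_comm σc, smul_comm σc]
  obtain ⟨ε, hε, hp⟩ := exists_eps ![e, f] Ke Kf hf 1 (by group) LinearMap.id (fun _ _ => rfl)
    (fun v hv => ((htwo v).1 hv).2) L
    (fun p hpp hp => ⟨hLpt p hpp hp, (hL p hpp hp).1 0, (hL p hpp hp).2⟩) σ hσ hLσ
  refine ⟨ε, hε, fun p hpp h1 h2 => ?_⟩
  have := (hp p hpp ((htwo _).2 ⟨h1, h2⟩)).2.2
  simpa using this.symm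

end CfsgLib.FischerOrth
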