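import Cfsg.Agent.FischerOrth.Space
import Cfsg.Agent.FischerTypes.Local

/-!
# Coordinates on the members commuting with one member
-/

set_option autoImplicit false

namespace CfsgLib.FischerOrth

open Cfsg CfsgLib.FischerTypes

variable {G : Type*} [Group G] {D : Set G}
variable {V : Type*} [AddCommGroup V] [Module F3 V]

/-- Coordinates by points up to sign on the members commuting with `d`. -/
structure Coord (D : Set G) (S : OSpace V) (d : G) where
  /-- the member at a point -/
  φ : V → G
  mem : ∀ a, S.Pt a → φ a ∈ perp D d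
  surj : ∀ x ∈ perp D d, ∃ a, S.Pt a ∧ φ a = x
  eq_iff : ∀ a b, S.Pt a → S.Pt b → (φ a = φ b ↔ b = a ∨ b = -a)
  conj : ∀ a b, S.Pt a → S.Pt b → φ a * φ b * (φ a)⁻¹ = φ (S.refl a b)

namespace Coord

variable {S : OSpace V} {d : G} (C : Coord D S d)

theorem φ_neg {a : V} (ha : S.Pt a) : C.φ (-a) = C.φ a :=
  ((C.eq_iff a (-a) ha (S.pt_neg ha)).2 (Or.inr rfl)).symm

theorem φ_congr {a b : V} (ha : S.Pt a) (h : b = a ∨ b = -a) : C.φ b = C.φ a := by
  rcases h with rfl | rfl
  · rfl
  · exact C.φ_neg ha

theorem commute_iff {a b : V} (ha : S.Pt a) (hb : S.Pt b) :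
    Commute (C.φ a) (C.φ b) ↔ S.B a b = 0 ∨ b = a ∨ b = -a := by
  have h1 : Commute (C.φ a) (C.φ b) ↔ C.φ (S.refl a b) = C.φ b := by
    rw [← C.conj a b ha hb, mul_inv_eq_iff_eq_mul]
    exact Iff.rfl
  rw [h1, C.eq_iff _ _ (S.pt_refl ha hb) hb]
  constructor
  · rintro (h | h)
    · left
      rw [OSpace.refl, eq_sub_iff_add_eq, add_eq_left, smul_eq_zero] at h
      exact h.resolve_right (S.pt_ne_zero ha)
    · rcases f3_cases (S.B a b) with h0 | h0 | h0
      · exact Or.inl h0
      · right; right
        rw [OSpace.refl, h0, one_smul] at h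
        calc b = -(b - a) + (b + b) - a := by abel
          _ = b + b + b - a := by rw [← h]; abel
          _ = -a := by rw [three_zero]; abel
      · right; left
        rw [OSpace.refl, h0, neg_one_smul] at h
        calc b = -(b - -a) + (b + b) + a := by abel
          _ = b + b + b + a := by rw [← h]; abel
          _ = a := by rw [three_zero]; abel
  · rintro (h | rfl | rfl)
    · left; simp [OSpace.refl, h]
    · right
      simp only [OSpace.refl, show S.B b b = -1 from ha, neg_one_smul, sub_neg_eq_add]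
      exact eq_neg_of_add_eq_zero_left (by rw [← add_assoc]; exact three_zero b)
    · right
      simp only [OSpace.refl, map_neg, show S.B a a = -1 from ha, neg_neg, one_smul]
      calc -a = a + a - (a + a + a) := by abel
        _ = -(-a - a) := by rw [three_zero]; abel

theorem commute_orth {a b : V} (ha : S.Pt a) (hb : S.Pt b) (h : S.B a b = 0) :
    C.φ b ≠ C.φ a ∧ Commute (C.φ a) (C.φ b) := by
  refine ⟨fun e => ?_, (C.commute_iff ha hb).2 (Or.inl h)⟩
  rcases (C.eq_iff a b ha hb).1 e.symm with rfl | rfl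
  · rw [show S.B b b = -1 from ha] at h; exact absurd h (by decide)
  · rw [map_neg, show S.B a a = -1 from ha] at h; exact absurd h (by decide)

theorem orth_of_commute {a b : V} (ha : S.Pt a) (hb : S.Pt b) (hne : C.φ b ≠ C.φ a)
    (h : Commute (C.φ a) (C.φ b)) : S.B a b = 0 :=
  ((C.commute_iff ha hb).1 h).resolve_right fun h' => hne (C.φ_congr ha h')

/-- The same coordinates at an equal member. -/
def cast {d' : G} (h : d = d') : Coord D S d' where
  φ := C.φ
  mem a ha := h ▸ C.mem a ha
  surj x hx := C.surj x (h.symm ▸ hx)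
  eq_iff := C.eq_iff
  conj := C.conj

theorem cast_φ {d' : G} (h : d = d') (a : V) : (C.cast h).φ a = C.φ a := rfl

/-- Transport of coordinates by conjugation. -/
def map (hD : IsThreeTranspositionGroup D) (g : G) : Coord D S (g * d * g⁻¹) where
  φ a := g * C.φ a * g⁻¹
  mem a ha := ⟨hD.2.1 g _ (C.mem a ha).1, fun h => (C.mem a ha).2.1 (mul_left_cancel (mul_right_cancel h)),
    (commute_conj_iff' g d (C.φ a)).2 (C.mem a ha).2.2⟩
  surj x hx := by
    obtain ⟨a, ha, e⟩ := C.surj (g⁻¹ * x * g) ⟨by simpa using hD.2.1 g⁻¹ x hx.1,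
      fun h => hx.2.1 (by rw [← h]; group), by
        have := (commute_conj_iff' g⁻¹ _ _).2 hx.2.2
        simpa [mul_assoc] using this⟩
    exact ⟨a, ha, by rw [e]; group⟩
  eq_iff a b ha hb := by rw [← C.eq_iff a b ha hb, mul_left_inj, mul_right_inj]
  conj a b ha hb := by rw [← C.conj a b ha hb]; group

/-- An element fixing `d` and acting linearly in the coordinates. -/
structure Sym where
  /-- the element -/
  h : G
  /-- its map -/
  T : V →ₗ[F3] V
  fix : h * d * h⁻¹ = d
  isom : ∀ x y, S.B (T x) (T y) = S.B x y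
  act : ∀ a, S.Pt a → h * C.φ a * h⁻¹ = C.φ (T a)

namespace Sym

variable {C}

theorem mul_conj_aux (a b x : G) : a * b * x * (a * b)⁻¹ = a * (b * x * b⁻¹) * a⁻¹ := by group

theorem pt (h : C.Sym) {a : V} (ha : S.Pt a) : S.Pt (h.T a) := by
  rw [OSpace.Pt, h.isom]; exact ha

/-- The composite. -/
def comp (h k : C.Sym) : C.Sym where
  h := h.h * k.h
  T := h.T.comp k.T
  fix := (mul_conj_aux h.h k.h d).trans ((congrArg (fun x => h.h * x * h.h⁻¹) k.fix).trans h.fix)
  isom x y := by simp [h.isom, k.isom]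
  act a ha := (mul_conj_aux h.h k.h (C.φ a)).trans ((congrArg (fun x => h.h * x * h.h⁻¹) (k.act a ha)).trans
    (h.act _ (k.pt ha)))

/-- The reflection in a point. -/
def reflSym (C : Coord D S d) {a : V} (ha : S.Pt a) : C.Sym where
  h := C.φ a
  T := LinearMap.id - (S.B a).smulRight a
  fix := by rw [(C.mem a ha).2.2.symm.eq, mul_inv_cancel_right]
  isom x y := S.quad_refl ha x y
  act b hb := C.conj a b ha hb

theorem reflSym_T (C : Coord D S d) {a : V} (ha : S.Pt a) (x : V) : (reflSym C ha).T x = S.refl a x := rfl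

end Sym

end Coord

end CfsgLib.FischerOrth
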