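import Cfsg.Agent.FischerOrth.Bilin

/-!
# Points and singular vectors in prescribed position
-/

set_option autoImplicit false

namespace CfsgLib.FischerOrth

open Module

namespace OSpace

variable {V : Type*} [AddCommGroup V] [Module F3 V] (S : OSpace V)

theorem gram_zero (N : Fin 0 → V) (c : Fin 0 → F3) (_ : ∀ i, ∑ l, c l * S.B (N l) (N i) = 0) : c = 0 :=
  Subsingleton.elim _ _

theorem gram_one {a : V} (ha : S.B a a ≠ 0) (c : Fin 1 → F3)
    (h : ∀ i, ∑ l, c l * S.B (![a] l) (![a] i) = 0) : c = 0 := by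
  have h0 := h 0
  simp only [Fin.sum_univ_one, Matrix.cons_val_fin_one, mul_eq_zero, ha, or_false] at h0
  ext i; rw [Subsingleton.elim i 0]; simpa using h0

theorem gram_two {a b : V} (h : S.B a a * S.B b b - S.B a b * S.B a b ≠ 0) (c : Fin 2 → F3)
    (hc : ∀ i, ∑ l, c l * S.B (![a, b] l) (![a, b] i) = 0) : c = 0 := by
  have key : ∀ A b' C x y : F3, A * C - b' * b' ≠ 0 → x * A + y * b' = 0 → x * b' + y * C = 0 →
      x = 0 ∧ y = 0 := by decide
  have h0 := hc 0
  have h1 := hc 1
  simp [Fin.sum_univ_two, S.symm b a] at h0 h1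
  obtain ⟨e0, e1⟩ := key _ _ _ (c 0) (c 1) h h0 h1
  ext i; fin_cases i <;> simp [e0, e1]

theorem gram_triangle {r s t : V} (hr : S.B r r = 0) (hs : S.B s s = 0) (ht : S.B t t = 0) (h1 : S.B r s ≠ 0)
    (h2 : S.B r t ≠ 0) (h3 : S.B s t ≠ 0) (c : Fin 3 → F3)
    (hc : ∀ i, ∑ l, c l * S.B (![r, s, t] l) (![r, s, t] i) = 0) : c = 0 := by
  have key : ∀ a b d : F3, a ≠ 0 → b ≠ 0 → d ≠ 0 → ∀ x y z : F3, y * a + z * b = 0 → x * a + z * d = 0 →
      x * b + y * d = 0 → x = 0 ∧ y = 0 ∧ z = 0 := by decide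
  have e1 := hc 0; have e2 := hc 1; have e3 := hc 2
  simp [Fin.sum_univ_three, hr, hs, ht, S.symm s r, S.symm t r, S.symm t s] at e1 e2 e3
  obtain ⟨x0, y0, z0⟩ := key _ _ _ h1 h2 h3 (c 0) (c 1) (c 2) e1 e2 e3
  ext i; fin_cases i <;> simp [x0, y0, z0]

theorem gram_two_hyp {a b a' b' : V} (ha : S.B a a = 0) (hb : S.B b b = 0) (ha' : S.B a' a' = 0)
    (hb' : S.B b' b' = 0) (h : S.B a b ≠ 0) (h' : S.B a' b' ≠ 0) (o1 : S.B a a' = 0) (o2 : S.B a b' = 0)
    (o3 : S.B b a' = 0) (o4 : S.B b b' = 0) (c : Fin 4 → F3)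
    (hc : ∀ i, ∑ l, c l * S.B (![a, b, a', b'] l) (![a, b, a', b'] i) = 0) : c = 0 := by
  have e0 := hc 0; have e1 := hc 1; have e2 := hc 2; have e3 := hc 3
  simp [Fin.sum_univ_four, ha, hb, ha', hb', o1, o2, o3, o4, S.symm b a, S.symm a' a, S.symm b' a, S.symm a' b,
    S.symm b' b, S.symm b' a', h, h'] at e0 e1 e2 e3
  ext i; fin_cases i <;> simp [e0, e1, e2, e3]

omit S in
theorem mem_span_range {k : ℕ} (f : Fin k → V) (i : Fin k) : f i ∈ Submodule.span F3 (Set.range f) :=
  Submodule.subset_span ⟨i, rfl⟩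

theorem perp_span {k : ℕ} {f : Fin k → V} {v y : V} (hv : ∀ i, S.B (f i) v = 0)
    (hy : y ∈ Submodule.span F3 (Set.range f)) : S.B y v = 0 := by
  induction hy using Submodule.span_induction with
  | mem y hy => obtain ⟨i, rfl⟩ := hy; exact hv i
  | zero => simp
  | add a b _ _ ha hb => rw [S.add_left, ha, hb, add_zero]
  | smul s a _ ha => rw [S.smul_left, ha, mul_zero]

variable [Finite V]

/-- A point perpendicular to few vectors. -/
theorem exists_pt {k j : ℕ} (f : Fin k → V) (N : Fin j → V) (hN : ∀ i, N i ∈ Submodule.span F3 (Set.range f))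
    (hG : ∀ c : Fin j → F3, (∀ i, ∑ l, c l * S.B (N l) (N i) = 0) → c = 0)
    (h : 2 * k + 2 ≤ finrank F3 V + j) : ∃ x : V, (∀ i, S.B (f i) x = 0) ∧ S.Pt x := by
  obtain ⟨v, hv, hval⟩ := S.exists_shift (S.exists_plane f N hN hG h) 0 (-1)
  rw [zero_add] at hval
  exact ⟨v, S.mem_perp.1 hv, hval⟩

/-- A point perpendicular to few vectors but not to a given one outside their span. -/
theorem exists_pt_sep {k j : ℕ} (f : Fin k → V) (N : Fin j → V) (hN : ∀ i, N i ∈ Submodule.span F3 (Set.range f))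
    (hG : ∀ c : Fin j → F3, (∀ i, ∑ l, c l * S.B (N l) (N i) = 0) → c = 0)
    (h : 2 * k + 3 ≤ finrank F3 V + j) {u : V} (hu : u ∉ Submodule.span F3 (Set.range f)) :
    ∃ x : V, (∀ i, S.B (f i) x = 0) ∧ S.Pt x ∧ S.B u x ≠ 0 := by
  obtain ⟨p, hp, hpp⟩ := S.exists_pt f N hN hG (by omega)
  by_cases hup : S.B u p = 0
  swap
  · exact ⟨p, hp, hpp, hup⟩
  have hup' : u ∉ Submodule.span F3 (Set.range (Fin.cons p f : Fin (k + 1) → V)) := fun hu' => by
    rw [Fin.range_cons, Submodule.mem_span_insert] at hu'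
    obtain ⟨t, z, hz, rfl⟩ := hu'
    refine hu ?_
    have hz0 : S.B z p = 0 := by
      clear hup hu
      induction hz using Submodule.span_induction with
      | mem y hy => obtain ⟨i, rfl⟩ := hy; exact hp i
      | zero => simp
      | add a b _ _ ha hb => rw [S.add_left, ha, hb, add_zero]
      | smul s a _ ha => rw [S.smul_left, ha, mul_zero]
    rw [S.add_left, S.smul_left, hz0, show S.B p p = -1 from hpp, add_zero, mul_neg, mul_one, neg_eq_zero] at hup
    rw [hup, zero_smul, zero_add]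
    exact hz
  obtain ⟨x, hx, hux⟩ := S.exists_dual _ hup'
  have hxp : S.B p x = 0 := by simpa using hx 0
  have hxf : ∀ i, S.B (f i) x = 0 := fun i => by simpa using hx i.succ
  rcases f3_cases (S.B x x) with h0 | h0 | h0
  · refine ⟨p + x, fun i => by rw [map_add, hp i, hxf i, add_zero], ?_, by rw [map_add, hup, hux, zero_add]; exact one_ne_zero⟩
    rw [Pt, S.quad_add, h0, hxp, show S.B p p = -1 from hpp]; ring
  swap
  · exact ⟨x, hxf, h0, by rw [hux]; exact one_ne_zero⟩
  obtain ⟨q, hq, hqq⟩ := S.exists_aniso (k := k + 2) (j := j + 2) (Fin.cons x (Fin.cons p f))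
    (Fin.cons x (Fin.cons p N))
    (fun i => by
      induction i using Fin.cases with
      | zero => simpa using mem_span_range (Fin.cons x (Fin.cons p f)) 0
      | succ i =>
        induction i using Fin.cases with
        | zero => simpa using mem_span_range (Fin.cons x (Fin.cons p f)) (Fin.succ 0)
        | succ i =>
          simp only [Fin.cons_succ]
          refine Submodule.span_mono ?_ (hN i)
          rintro _ ⟨l, rfl⟩
          exact ⟨l.succ.succ, by simp⟩)
    (fun c hc => by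
      have hNp : ∀ (v : V), (∀ i, S.B (f i) v = 0) → ∀ l, S.B (N l) v = 0 := fun v hv l => S.perp_span hv (hN l)
      have e0 := hc 0
      have e1 := hc (Fin.succ 0)
      simp only [Fin.sum_univ_succ, Fin.cons_zero, Fin.cons_succ, hxp, hNp x hxf, hNp p hp, h0,
        show S.B p p = -1 from hpp, S.symm x p, mul_zero, Finset.sum_const_zero, add_zero, zero_add, mul_one,
        mul_neg, neg_eq_zero] at e0 e1
      have e2 := hG (fun l => c l.succ.succ) fun i => by
        have e := hc i.succ.succ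
        simp only [Fin.sum_univ_succ, Fin.cons_zero, Fin.cons_succ, e0] at e
        rw [show c (Fin.succ 0) = 0 from e1] at e
        simpa using e
      ext l
      induction l using Fin.cases with
      | zero => exact e0
      | succ l =>
        induction l using Fin.cases with
        | zero => exact e1
        | succ l => exact congrFun e2 l)
    (by omega)
  rw [S.mem_perp] at hq
  have hqx : S.B x q = 0 := by simpa using hq 0
  have hqp : S.B p q = 0 := by simpa using hq (Fin.succ 0)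
  have hqf : ∀ i, S.B (f i) q = 0 := fun i => by simpa using hq i.succ.succ
  have huq : S.B u (x + q) = 1 + S.B u q := by rw [map_add, hux]
  rcases (f3_cases (S.B q q)).resolve_left hqq with hq1 | hq1
  · by_cases hb : S.B u (x + q) = 0
    · refine ⟨x + (-1 : F3) • q, fun i => by rw [map_add, map_smul, hxf i, hqf i, smul_zero, add_zero], ?_, ?_⟩
      · rw [Pt, S.quad_add, h0]
        simp only [map_smul, LinearMap.smul_apply, smul_eq_mul, hqx, hq1]
        decide
      · rw [huq] at hb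
        rw [map_add, map_smul, hux, smul_eq_mul]
        revert hb; generalize S.B u q = t; revert t; decide
    · refine ⟨x + q, fun i => by rw [map_add, hxf i, hqf i, add_zero], ?_, hb⟩
      rw [Pt, S.quad_add, h0, hqx, hq1]; decide
  · by_cases hb : S.B u q = 0
    · refine ⟨p + x + q, fun i => by rw [map_add, map_add, hp i, hxf i, hqf i]; simp, ?_,
        by rw [map_add, map_add, hup, hux, hb]; decide⟩
      rw [Pt, S.quad_add, S.quad_add, S.add_left, hxp, hqp, hqx, hq1, h0, show S.B p p = -1 from hpp]; decide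
    · exact ⟨q, hqf, hq1, hb⟩

/-- A singular vector perpendicular to few vectors but not to a given perpendicular one. -/
theorem exists_sing_sep {k j : ℕ} (f : Fin k → V) (N : Fin j → V) (hN : ∀ i, N i ∈ Submodule.span F3 (Set.range f))
    (hG : ∀ c : Fin j → F3, (∀ i, ∑ l, c l * S.B (N l) (N i) = 0) → c = 0)
    (h : 2 * k + 3 ≤ finrank F3 V + j) {z : V} (hz : ∀ i, S.B (f i) z = 0)
    (hz' : z ∉ Submodule.span F3 (Set.range f)) :
    ∃ x : V, (∀ i, S.B (f i) x = 0) ∧ S.Sing x ∧ S.B z x ≠ 0 := by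
  suffices hx : ∃ x : V, (∀ i, S.B (f i) x = 0) ∧ S.B x x = 0 ∧ S.B z x ≠ 0 by
    obtain ⟨x, hx, hxx, hzx⟩ := hx
    exact ⟨x, hx, ⟨hxx, fun e => hzx (by rw [e, map_zero])⟩, hzx⟩
  by_cases hzz : S.B z z = 0
  · obtain ⟨x, hx, hzx⟩ := S.exists_dual f hz'
    obtain ⟨t, ht⟩ := S.exists_adjust x z hzz (by rw [S.symm, hzx]; exact one_ne_zero) 0
    refine ⟨x + t • z, fun i => by rw [map_add, map_smul, hx i, hz i, smul_zero, add_zero], ht, ?_⟩
    rw [map_add, map_smul, hzx, hzz, smul_zero, add_zero]; exact one_ne_zero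
  · have hNz : ∀ l, S.B (N l) z = 0 := fun l => S.perp_span hz (hN l)
    have hpl := S.exists_plane (k := k + 1) (j := j + 1) (Fin.cons z f) (Fin.cons z N)
      (fun i => by
        induction i using Fin.cases with
        | zero => simpa using mem_span_range (Fin.cons z f) 0
        | succ i =>
          simp only [Fin.cons_succ]
          exact Submodule.span_mono (by rintro _ ⟨l, rfl⟩; exact ⟨l.succ, by simp⟩) (hN i))
      (fun c hc => by
        have e0 := hc 0
        simp only [Fin.sum_univ_succ, Fin.cons_zero, Fin.cons_succ, hNz, mul_zero, Finset.sum_const_zero, add_zero,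
          mul_eq_zero, hzz, or_false] at e0
        have e1 := hG (fun l => c l.succ) fun i => by
          have e := hc i.succ
          simp only [Fin.sum_univ_succ, Fin.cons_zero, Fin.cons_succ, e0] at e
          simpa using e
        ext l
        induction l using Fin.cases with
        | zero => exact e0
        | succ l => exact congrFun e1 l)
      (by omega)
    obtain ⟨v, hv, hvv⟩ := S.exists_shift hpl 0 (-S.B z z)
    rw [zero_add] at hvv
    rw [S.mem_perp] at hv
    have hzv : S.B z v = 0 := by simpa using hv 0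
    refine ⟨z + v, fun i => by rw [map_add, hz i]; simpa using hv i.succ, ?_, ?_⟩
    · rw [S.quad_add, hzv, hvv]; ring
    · rw [map_add, hzv, add_zero]; exact hzz

/-! ### Singular vectors meeting prescribed ones -/

omit S [Finite V] in
theorem not_mem_span_one {a v : V} (h : ∀ t : F3, v ≠ t • a) : v ∉ Submodule.span F3 (Set.range ![a]) := by
  rw [Matrix.range_cons, Matrix.range_empty, Set.union_empty, Submodule.mem_span_singleton]
  rintro ⟨t, ht⟩
  exact h t ht.symm

theorem exists_meet_two {w z : V} (hw : w ≠ 0) (hz : z ≠ 0) : ∃ x : V, S.B w x ≠ 0 ∧ S.B z x ≠ 0 := by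
  obtain ⟨a, ha⟩ : ∃ a, S.B w a ≠ 0 := by
    by_contra h; push Not at h; exact hw (S.nd w h)
  obtain ⟨b, hb⟩ : ∃ b, S.B z b ≠ 0 := by
    by_contra h; push Not at h; exact hz (S.nd z h)
  by_cases h1 : S.B z a = 0
  · by_cases h2 : S.B w b = 0
    · exact ⟨a + b, by rw [map_add, h2, add_zero]; exact ha, by rw [map_add, h1, zero_add]; exact hb⟩
    · exact ⟨b, h2, hb⟩
  · exact ⟨a, ha, h1⟩

/-- A singular vector meeting two orthogonal singular vectors. -/
theorem bridge_one {w z : V} (hw : S.Sing w) (hz : S.Sing z) (hwz : S.B w z = 0) :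
    ∃ u, S.Sing u ∧ S.B w u ≠ 0 ∧ S.B z u ≠ 0 := by
  obtain ⟨x, h1, h2⟩ := S.exists_meet_two hw.2 hz.2
  obtain ⟨t, ht⟩ := S.exists_adjust x w hw.1 (by rwa [S.symm]) 0
  have e1 : S.B w (x + t • w) ≠ 0 := by rwa [map_add, map_smul, hw.1, smul_zero, add_zero]
  exact ⟨x + t • w, ⟨ht, fun e => e1 (by rw [e, map_zero])⟩, e1,
    by rwa [map_add, map_smul, S.symm z w, hwz, smul_zero, add_zero]⟩

/-- A singular vector meeting a hyperbolic pair and a singular vector perpendicular to it. -/
theorem bridge_two {w z z' : V} (hw : S.Sing w) (hz : S.Sing z) (hz' : S.Sing z') (h : S.B w z = 0)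
    (h' : S.B w z' = 0) (hzz : S.B z z' ≠ 0) : ∃ u, S.Sing u ∧ S.B w u ≠ 0 ∧ S.B z u ≠ 0 ∧ S.B z' u ≠ 0 := by
  have hwn : w ∉ Submodule.span F3 (Set.range ![z, z']) := by
    rw [Submodule.mem_span_range_iff_exists_fun]
    rintro ⟨c, hc⟩
    simp only [Fin.sum_univ_two, Matrix.cons_val_zero, Matrix.cons_val_one] at hc
    have e1 := congrArg (S.B z') hc
    have e2 := congrArg (S.B z) hc
    simp [hz.1, hz'.1, S.symm z' z, S.symm z' w, S.symm z w, h, h', hzz] at e1 e2
    exact hw.2 (by rw [← hc, e1, e2]; simp)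
  obtain ⟨x, hx, hxw⟩ := S.exists_dual _ hwn
  have hxz : S.B z x = 0 := by simpa using hx 0
  have hxz' : S.B z' x = 0 := by simpa using hx 1
  have e : S.B (x + z + z') w = 1 := by simp [S.symm x w, hxw, S.symm z w, S.symm z' w, h, h']
  obtain ⟨t, ht⟩ := S.exists_adjust (x + z + z') w hw.1 (by rw [e]; exact one_ne_zero) 0
  have e1 : S.B w (x + z + z' + t • w) = 1 := by simp [hxw, h, h', hw.1]
  exact ⟨_, ⟨ht, fun e => by rw [e, map_zero] at e1; exact zero_ne_one e1⟩, by rw [e1]; exact one_ne_zero,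
    by simpa [hxz, hz.1, S.symm z w, h] using hzz,
    by simpa [hxz', hz'.1, S.symm z' w, h', S.symm z' z] using hzz⟩

/-- A singular vector meeting the four corners of a square of singular vectors. -/
theorem bridge_four (hm : 5 ≤ finrank F3 V) {w u z u' : V} (hw : S.Sing w) (hu : S.Sing u) (hz : S.Sing z)
    (hu' : S.Sing u') (hwu : S.B w u ≠ 0) (hwu' : S.B w u' ≠ 0) (hwz : S.B w z = 0) (huu' : S.B u u' = 0)
    (huz : S.B u z ≠ 0) (huz' : S.B u' z ≠ 0) (hzw : ∀ a : F3, z ≠ a • w) :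
    ∃ x, S.Sing x ∧ S.B w x ≠ 0 ∧ S.B u x ≠ 0 ∧ S.B z x ≠ 0 ∧ S.B u' x ≠ 0 := by
  set t := S.B w u with htdef
  have htt : t * t = 1 := f3_sq hwu
  set α := t * S.B u z with hαdef
  set γ := t * S.B w u' with hγdef
  set ζ := z - α • w with hζdef
  set η := u' - γ • u with hηdef
  have hζw : S.B w ζ = 0 := by simp [hζdef, hwz, hw.1]
  have hζu : S.B u ζ = 0 := by
    simp only [hζdef, hαdef, map_sub, map_smul, smul_eq_mul, S.symm u w, ← htdef]
    linear_combination (-S.B u z) * htt
  have hηu : S.B u η = 0 := by simp [hηdef, huu', hu.1]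
  have hηw : S.B w η = 0 := by
    simp only [hηdef, hγdef, map_sub, map_smul, smul_eq_mul, ← htdef]
    linear_combination (-S.B w u') * htt
  have hζζ : S.B ζ ζ = 0 := by simp [hζdef, hz.1, hw.1, hwz, S.symm z w]
  have hηη : S.B η η = 0 := by simp [hηdef, hu'.1, hu.1, huu', S.symm u' u]
  by_cases hs : S.B ζ η = 0
  · -- a radical direction
    have hζ0 : ζ ≠ 0 := fun e => hzw α (by rwa [hζdef, sub_eq_zero] at e)
    have hn : ζ ∉ Submodule.span F3 (Set.range ![w, u]) := by
      rw [Submodule.mem_span_range_iff_exists_fun]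
      rintro ⟨c, hc⟩
      simp only [Fin.sum_univ_two, Matrix.cons_val_zero, Matrix.cons_val_one] at hc
      have e1 := congrArg (S.B w) hc
      have e2 := congrArg (S.B u) hc
      simp [hw.1, hu.1, S.symm u w, ← htdef, hwu, hζw, hζu] at e1 e2
      exact hζ0 (by rw [← hc, e1, e2]; simp)
    obtain ⟨h, hh, hhζ⟩ := S.exists_dual _ hn
    have hhw : S.B w h = 0 := by simpa using hh 0
    have hhu : S.B u h = 0 := by simpa using hh 1
    obtain ⟨a, ha0, haα⟩ := f3_avoid (α * t) 1 (mul_ne_zero (mul_ne_zero hwu huz) hwu)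
    obtain ⟨b, hb0, hbγ⟩ := f3_avoid (γ * t) (S.B η h) (mul_ne_zero (mul_ne_zero hwu hwu') hwu)
    have eζ : S.B (a • u + b • w + h) ζ = 1 := by simp [hζu, hζw, S.symm h ζ, hhζ]
    obtain ⟨p, hp⟩ := S.exists_adjust (a • u + b • w + h) ζ hζζ (by rw [eζ]; exact one_ne_zero) 0
    set x := a • u + b • w + h + p • ζ with hxdef
    have xw : S.B w x = a * t := by simp [hxdef, hw.1, hhw, hζw, ← htdef]
    have xu : S.B u x = b * t := by simp [hxdef, hu.1, hhu, hζu, S.symm u w, ← htdef]
    have xζ : S.B ζ x = 1 := by simp [hxdef, S.symm ζ u, S.symm ζ w, hζu, hζw, hhζ, hζζ]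
    have xη : S.B η x = S.B η h := by simp [hxdef, S.symm η u, S.symm η w, hηu, hηw, S.symm η ζ, hs]
    have xz : S.B z x = α * t * a + 1 := by
      rw [show z = ζ + α • w by rw [hζdef]; abel, S.add_left, S.smul_left, xζ, xw]; ring
    have xu' : S.B u' x = γ * t * b + S.B η h := by
      rw [show u' = η + γ • u by rw [hηdef]; abel, S.add_left, S.smul_left, xη, xu]; ring
    have hxne : S.B w x ≠ 0 := by rw [xw]; exact mul_ne_zero ha0 hwu
    exact ⟨x, ⟨hp, fun e => hxne (by rw [e, map_zero])⟩, hxne, by rw [xu]; exact mul_ne_zero hb0 hwu,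
      by rw [xz]; exact haα, by rw [xu']; exact hbγ⟩
  · -- four independent vectors
    have hfw : ∀ y ∈ S.perp ![w, u, z, u'], S.B w y = 0 ∧ S.B u y = 0 ∧ S.B z y = 0 ∧ S.B u' y = 0 :=
      fun y hy => ⟨(S.mem_perp.1 hy) 0, (S.mem_perp.1 hy) 1, (S.mem_perp.1 hy) 2, (S.mem_perp.1 hy) 3⟩
    obtain ⟨q, hq, hqq⟩ := S.exists_aniso ![w, u, z, u'] ![w, u, ζ, η]
      (fun i => by
        have m := mem_span_range ![w, u, z, u']
        fin_cases i
        · exact m 0
        · exact m 1
        · exact sub_mem (m 2) (Submodule.smul_mem _ _ (m 0))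
        · exact sub_mem (m 3) (Submodule.smul_mem _ _ (m 1)))
      (S.gram_two_hyp hw.1 hu.1 hζζ hηη hwu hs hζw hηw hζu hηu) (by omega)
    obtain ⟨qw, qu, qz, qu'⟩ := hfw q hq
    obtain ⟨b, hb0, hb⟩ : ∃ b : F3, b ≠ 0 ∧ b * t + b * t + S.B q q = 0 :=
      (by decide : ∀ t Q : F3, t ≠ 0 → Q ≠ 0 → ∃ b : F3, b ≠ 0 ∧ b * t + b * t + Q = 0) t _ hwu hqq
    set x := u + b • w + q with hxdef
    have xw : S.B w x = t := by simp [hxdef, hw.1, qw, ← htdef]
    refine ⟨x, ⟨?_, fun e => hwu (by rw [← xw, e, map_zero])⟩, by rw [xw]; exact hwu, ?_, ?_, ?_⟩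
    · rw [hxdef, S.quad_add, S.quad_add]
      simp only [map_add, map_smul, LinearMap.add_apply, LinearMap.smul_apply, smul_eq_mul, hu.1, hw.1, qu, qw,
        S.symm u w, ← htdef]
      linear_combination hb
    · simp [hxdef, hu.1, qu, S.symm u w, ← htdef, hb0, hwu]
    · simpa [hxdef, qz, S.symm z u, S.symm z w, hwz] using huz
    · simpa [hxdef, qu', S.symm u' u, huu', hb0] using (show b * S.B u' w ≠ 0 from mul_ne_zero hb0 (by rwa [S.symm]))

end OSpace

end CfsgLib.FischerOrth
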