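import Cfsg.Agent.FischerOrth.Compat

/-!
# The singular line of a member not commuting with the base

A member `y` not commuting with `d` reads `(1, w)` in every chart at a common partner; the line of `w` does not
depend on the partner, and the common partners are the points perpendicular to `w`.
-/

set_option autoImplicit false

namespace CfsgLib.FischerOrth

open Cfsg CfsgLib.FischerTypes Module

variable {G : Type*} [Group G] {D : Set G}
variable {V : Type*} [AddCommGroup V] [Module F3 V] {S : OSpace V} {d : G}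

/-- The standing data: charts at all points. -/
structure Atlas (C : Coord D S d) where
  dim : 5 ≤ finrank F3 V
  grp : IsThreeTranspositionGroup D
  base : d ∈ D
  /-- the chosen charts -/
  K : ∀ e : V, S.Pt e → Chart C e

theorem exists_atlas [Finite V] (hm : 5 ≤ finrank F3 V) (hG : IsThreeTranspositionGroup D)
    (hcl : ∀ x ∈ D, ∃ g : G, g * d * g⁻¹ = x) (hd : d ∈ D) (C : Coord D S d) : Nonempty (Atlas C) :=
  ⟨⟨hm, hG, hd, fun _ he => (exists_chart hm hG hcl hd C he).some⟩⟩

namespace Atlas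

variable {C : Coord D S d} (A : Atlas C)

/-- `y` reads `(±1, w)` at the point `e`. -/
def AtPt (y : G) (e w : V) : Prop :=
  ∃ he : S.Pt e, S.Sing w ∧ S.B e w = 0 ∧ ∃ σ : F3, σ ≠ 0 ∧ y = (A.K e he).Θ (σ, w)

variable {A}

theorem pt_unit {σ : F3} (hσ : σ ≠ 0) {w : V} (hw : S.Sing w) : S.ext.Pt ((σ, w) : F3 × V) := by
  rw [OSpace.Pt, S.ext_apply, hw.1, add_zero, f3_sq hσ]

theorem AtPt.not_commute {y : G} {e w : V} (h : A.AtPt y e w) :
    y ∈ D ∧ ¬ Commute d y ∧ Commute (C.φ e) y ∧ y ≠ C.φ e := by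
  obtain ⟨he, hw, hew, σ, hσ, rfl⟩ := h
  obtain ⟨h1, h2, h3⟩ := (A.K e he).mem (p := (σ, w)) hew (pt_unit hσ hw)
  refine ⟨h1, fun hc => ?_, h3, h2⟩
  replace hc : Commute ((A.K e he).Θ (1, 0)) ((A.K e he).Θ (σ, w)) := by rw [(A.K e he).Θ_top]; exact hc
  rw [(A.K e he).commute_iff he (by simp) S.pt_top (show S.B e ((σ, w) : F3 × V).2 = 0 from hew)
      (pt_unit hσ hw)] at hc
  rcases hc with hc | hc | hc
  · rw [S.ext_top_left, neg_eq_zero] at hc; exact hσ hc
  · exact hw.2 (congrArg Prod.snd hc)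
  · exact hw.2 (by simpa using congrArg Prod.snd hc)

theorem AtPt.neg {y : G} {e w : V} (h : A.AtPt y e w) : A.AtPt y e (-w) := by
  obtain ⟨he, hw, hew, σ, hσ, rfl⟩ := h
  refine ⟨he, S.sing_neg hw, by simpa using hew, -σ, neg_ne_zero.2 hσ, ?_⟩
  rw [← (A.K e he).Θ_neg (p := (σ, w)) hew (pt_unit hσ hw)]
  rfl

theorem AtPt.smul {y : G} {e w : V} (h : A.AtPt y e w) {t : F3} (ht : t ≠ 0) : A.AtPt y e (t • w) := by
  rcases f3_cases t with rfl | rfl | rfl
  · exact absurd rfl ht
  · rwa [one_smul]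
  · rw [neg_one_smul]; exact h.neg

theorem AtPt.unique {y : G} {e w w' : V} (h : A.AtPt y e w) (h' : A.AtPt y e w') : w' = w ∨ w' = -w := by
  obtain ⟨he, hw, hew, σ, hσ, rfl⟩ := h
  obtain ⟨_, hw', hew', σ', hσ', e1⟩ := h'
  rcases ((A.K e he).eq_iff he (p := (σ, w)) (q := (σ', w')) hew (pt_unit hσ hw) hew' (pt_unit hσ' hw')).1 e1 with e2 | e2
  · exact Or.inl (congrArg Prod.snd e2)
  · exact Or.inr (congrArg Prod.snd e2)

theorem AtPt.commute_iff {y : G} {e w a : V} (h : A.AtPt y e w) (ha : S.Pt a) (hea : S.B e a = 0) :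
    Commute (C.φ a) y ↔ S.B w a = 0 := by
  obtain ⟨hyD, hdy, -, -⟩ := h.not_commute
  obtain ⟨he, hw, hew, σ, hσ, rfl⟩ := h
  have hne : (A.K e he).Θ (σ, w) ≠ (A.K e he).Θ (0, a) := by
    rw [(A.K e he).Θ_base ha hea]; intro hc; rw [hc] at hdy; exact hdy (C.mem a ha).2.2
  have := (A.K e he).orth_iff he (p := (0, a)) (q := (σ, w)) hea (S.pt_lift.2 ha) hew (pt_unit hσ hw)
  rw [S.ext_lift_left, (A.K e he).Θ_base ha hea] at this
  show _ ↔ S.B w a = 0
  rw [S.symm w a, this]
  exact ⟨fun hc => ⟨hc, by rw [(A.K e he).Θ_base ha hea] at hne; exact hne⟩, fun hc => hc.1⟩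

variable [Finite V]

theorem exists_atPt {y : G} (hy : y ∈ D) (hdy : ¬ Commute d y) {e : V} (he : S.Pt e)
    (hc : Commute (C.φ e) y) : ∃ w, A.AtPt y e w := by
  have hne : y ≠ C.φ e := fun h => hdy (h ▸ (C.mem e he).2.2)
  obtain ⟨p, hp, hpp, e1⟩ := (A.K e he).exists_Θ (x := y) ⟨hy, hne, hc⟩
  have hn : ¬ Commute ((A.K e he).Θ (1, 0)) ((A.K e he).Θ p) := by rw [(A.K e he).Θ_top, e1]; exact hdy
  rw [(A.K e he).commute_iff he (by simp) S.pt_top hp hpp, S.ext_top_left, neg_eq_zero, not_or, not_or] at hn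
  obtain ⟨h1, h2, h3⟩ := hn
  have hq : S.B p.2 p.2 = 0 := by
    have h : S.ext.B p p = -1 := hpp
    rw [S.ext_apply, f3_sq h1] at h
    linear_combination h
  refine ⟨p.2, he, ⟨hq, fun h0 => ?_⟩, hp, p.1, h1, e1.symm⟩
  rcases f3_cases p.1 with h | h | h
  · exact h1 h
  · exact h2 (Prod.ext h h0)
  · exact h3 (Prod.ext (by simpa using h) (by simpa using h0))

theorem AtPt.next {y : G} {e f w : V} (h : A.AtPt y e w) (hf : S.Pt f) (hef : S.B e f = 0)
    (hc : Commute (C.φ f) y) : A.AtPt y f w := by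
  have hwf : S.B w f = 0 := (h.commute_iff hf hef).1 hc
  obtain ⟨he, hw, hew, σ, hσ, rfl⟩ := h
  obtain ⟨ε, hε, hE⟩ := exists_compat A.dim A.grp he hf hef (A.K e he) (A.K f hf)
  refine ⟨hf, hw, by rw [S.symm]; exact hwf, ε * σ, mul_ne_zero hε hσ, ?_⟩
  exact hE (σ, w) (pt_unit hσ hw) hew (by show S.B f w = 0; rw [S.symm]; exact hwf)

theorem AtPt.map {y : G} {e w : V} (h : A.AtPt y e w) (g : C.Sym) :
    A.AtPt (g.h * y * g.h⁻¹) (g.T e) (g.T w) := by
  obtain ⟨he, hw, hew, σ, hσ, rfl⟩ := h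
  obtain ⟨ε, hε, hE⟩ := exists_equivariant A.dim A.grp g he (A.K e he) (A.K _ (g.pt he))
  refine ⟨g.pt he, ⟨by rw [g.isom]; exact hw.1, fun h0 => hw.2 (S.nd w fun x => by
    rw [← g.isom, h0, map_zero, LinearMap.zero_apply])⟩, by rw [g.isom]; exact hew, ε * σ, mul_ne_zero hε hσ, ?_⟩
  exact hE (σ, w) (pt_unit hσ hw) hew

theorem AtPt.refl {y : G} {f r a : V} (h : A.AtPt y f r) (ha : S.Pt a) (hc : Commute (C.φ a) y) :
    A.AtPt y (S.refl a f) (S.refl a r) := by
  have := h.map (Coord.Sym.reflSym C ha)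
  rwa [show (Coord.Sym.reflSym C ha).h * y * (Coord.Sym.reflSym C ha).h⁻¹ = y from by
    show C.φ a * y * (C.φ a)⁻¹ = y
    rw [hc.eq, mul_inv_cancel_right]] at this

/-- A line seen from two orthogonal partners forces perpendicularity. -/
theorem perp_of_refl {y : G} {a a' f r : V} (ha : S.Pt a) (ha' : S.Pt a') (haa : S.B a a' = 0)
    (hc : Commute (C.φ a) y) (hc' : Commute (C.φ a') y) (h : A.AtPt y f r) (hf : S.B a f ≠ 0)
    (hf' : S.B a' f ≠ 0) : S.B a r = 0 := by
  obtain ⟨hfp, hr, -, -⟩ := id h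
  have h1 := h.refl ha hc
  have h2 := h.refl ha' hc'
  have hff : S.B f f = -1 := hfp
  have horth : S.B (S.refl a f) (S.refl a' f) = 0 := by
    simp only [OSpace.refl, map_sub, map_smul, LinearMap.sub_apply, LinearMap.smul_apply, smul_eq_mul, hff, haa,
      S.symm f a, S.symm f a', mul_zero, sub_zero]
    revert hf hf'
    generalize S.B a f = x; generalize S.B a' f = x'
    revert x x'; decide
  have h3 := h1.next (S.pt_refl ha' hfp) horth h2.not_commute.2.2.1
  have haa' : S.B a' a = 0 := by rw [S.symm]; exact haa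
  rcases h3.unique h2 with e | e
  · have h0 := congrArg (S.B a) e
    simp only [OSpace.refl, map_sub, map_smul, smul_eq_mul, haa, show S.B a a = -1 from ha, mul_zero,
      sub_zero] at h0
    revert h0; generalize S.B a r = x; revert x; decide
  · have hsum : r + r = S.B a r • a + S.B a' r • a' := by
      rw [OSpace.refl, OSpace.refl, neg_sub] at e
      calc r + r = (r - S.B a' r • a') + r + S.B a' r • a' := by abel
        _ = _ := by rw [e]; abel
    have hval := congrArg (fun v => S.B v v) hsum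
    simp only [map_add, map_smul, LinearMap.add_apply, LinearMap.smul_apply, smul_eq_mul, hr.1, haa, haa',
      show S.B a a = -1 from ha, show S.B a' a' = -1 from ha', add_zero, mul_zero, zero_add] at hval
    revert hval; generalize S.B a r = x; generalize S.B a' r = x'; revert x x'; decide

/-- The line does not depend on the partner. -/
theorem line_const {y : G} {e w : V} (h : A.AtPt y e w) {f : V} (hf : S.Pt f) (hc : Commute (C.φ f) y) :
    A.AtPt y f w := by
  obtain ⟨r, hr⟩ := exists_atPt (A := A) h.not_commute.1 h.not_commute.2.1 hf hc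
  obtain ⟨he, hw, hew, -⟩ := id h
  have hee : S.B e e = -1 := he
  have hgood : ∀ {p a : V}, A.AtPt y p w → S.Pt a → S.B p a = 0 → S.B w a = 0 → A.AtPt y a w :=
    fun hp ha hpa hwa => hp.next ha hpa ((hp.commute_iff ha hpa).2 hwa)
  by_contra hcon
  have hfr : ¬ (r = w ∨ r = -w) := by
    rintro (rfl | rfl)
    · exact hcon hr
    · exact hcon (by simpa using hr.neg)
  have hnon : ∀ p, A.AtPt y p w → S.B p f ≠ 0 := fun p hp h0 => hcon (hp.next hf h0 hc)
  have hperp : ∀ p, A.AtPt y p w → S.B p r = 0 := by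
    intro p hp
    obtain ⟨hpp, -, hpw, -⟩ := id hp
    obtain ⟨a, ha', ha⟩ := S.exists_pt ![p, w] ![p] (fun i => by
      rw [Subsingleton.elim i 0]; exact OSpace.mem_span_range ![p, w] 0) (S.gram_one' hpp)
      (by have := A.dim; omega)
    have hpa : S.B p a = 0 := ha' 0
    have hwa : S.B w a = 0 := ha' 1
    have hga := hgood hp ha hpa hwa
    exact perp_of_refl hpp ha hpa hp.not_commute.2.2.1 hga.not_commute.2.2.1 hr (hnon p hp) (hnon a hga)
  obtain ⟨a, ha', ha⟩ := S.exists_pt ![e, w] ![e] (fun i => by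
    rw [Subsingleton.elim i 0]; exact OSpace.mem_span_range ![e, w] 0) (S.gram_one' he)
    (by have := A.dim; omega)
  have hea : S.B e a = 0 := ha' 0
  have hwa : S.B w a = 0 := ha' 1
  have haw : S.B a w = 0 := by rw [S.symm]; exact hwa
  have hga := hgood h ha hea hwa
  have hre : S.B e r = 0 := hperp e h
  have hra : S.B a r = 0 := hperp a hga
  have hwe : S.B w e = 0 := by rw [S.symm]; exact hew
  have hp : S.Pt (e + w) := by
    rw [OSpace.Pt, S.quad_add, hee, hew, hw.1, add_zero, add_zero, add_zero]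
  have hge : A.AtPt y (e + w) w := hgood hga hp
    (by rw [map_add, haw, S.symm a e, hea, add_zero]) (by rw [map_add, hwe, hw.1, add_zero])
  have hrw : S.B w r = 0 := by
    have := hperp _ hge
    rwa [S.add_left, hre, zero_add] at this
  obtain ⟨-, hrs, -⟩ := hr
  have hrspan : r ∉ Submodule.span F3 (Set.range ![e, w]) := by
    rw [Submodule.mem_span_range_iff_exists_fun]
    rintro ⟨c, hc⟩
    simp only [Fin.sum_univ_two, Matrix.cons_val_zero, Matrix.cons_val_one] at hc
    have h0 := congrArg (S.B e) hc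
    simp only [map_add, map_smul, smul_eq_mul, hee, hew, hre, mul_zero, add_zero, mul_neg, mul_one,
      neg_eq_zero] at h0
    rw [h0, zero_smul, zero_add] at hc
    rcases f3_cases (c 1) with h1 | h1 | h1 <;> rw [h1] at hc
    · exact hrs.2 (by rw [← hc, zero_smul])
    · exact hfr (Or.inl (by rw [← hc, one_smul]))
    · exact hfr (Or.inr (by rw [← hc, neg_one_smul]))
  by_cases h6 : 6 ≤ finrank F3 V
  · obtain ⟨b, hb', hb, hbr⟩ := S.exists_pt_sep ![e, w] ![e] (fun i => by
      rw [Subsingleton.elim i 0]; exact OSpace.mem_span_range ![e, w] 0) (S.gram_one' he) (by omega) hrspan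
    exact hbr (by rw [S.symm]; exact hperp b (hgood h hb (hb' 0) (hb' 1)))
  · have hwspan : w ∉ Submodule.span F3 (Set.range ![e, a, r]) := by
      rw [Submodule.mem_span_range_iff_exists_fun]
      rintro ⟨c, hc⟩
      simp only [Fin.sum_univ_three, Matrix.cons_val_zero, Matrix.cons_val_one, Matrix.cons_val_two,
        Matrix.head_cons, Matrix.tail_cons] at hc
      have h0 := congrArg (S.B e) hc
      have h1 := congrArg (S.B a) hc
      have hae : S.B a e = 0 := by rw [S.symm]; exact hea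
      simp only [map_add, map_smul, smul_eq_mul, hee, hea, hre, hew, hra, haw, hae, show S.B a a = -1 from ha,
        mul_zero, add_zero, zero_add, mul_neg, mul_one, neg_eq_zero] at h0 h1
      rw [h0, h1, zero_smul, zero_smul, zero_add, zero_add] at hc
      rcases f3_cases (c 2) with h2 | h2 | h2 <;> rw [h2] at hc
      · exact hw.2 (by rw [← hc, zero_smul])
      · exact hfr (Or.inl (by rw [← hc, one_smul]))
      · exact hfr (Or.inr (by rw [← hc, neg_one_smul, neg_neg]))
    have hrspan' : r ∉ Submodule.span F3 (Set.range ![e, a, w]) := by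
      rw [Submodule.mem_span_range_iff_exists_fun]
      rintro ⟨c, hc⟩
      simp only [Fin.sum_univ_three, Matrix.cons_val_zero, Matrix.cons_val_one, Matrix.cons_val_two,
        Matrix.head_cons, Matrix.tail_cons] at hc
      have h0 := congrArg (S.B e) hc
      have h1 := congrArg (S.B a) hc
      have hae : S.B a e = 0 := by rw [S.symm]; exact hea
      simp only [map_add, map_smul, smul_eq_mul, hee, hea, hre, hew, hra, haw, hae, show S.B a a = -1 from ha,
        mul_zero, add_zero, zero_add, mul_neg, mul_one, neg_eq_zero] at h0 h1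
      rw [h0, h1, zero_smul, zero_smul, zero_add, zero_add] at hc
      exact hrspan (hc ▸ Submodule.smul_mem _ _ (OSpace.mem_span_range ![e, w] 1))
    obtain ⟨u, hu', hu⟩ := S.exists_dual ![e, a, r] hwspan
    obtain ⟨v, hv', hv⟩ := S.exists_dual ![e, a, w] hrspan'
    have hF : S.Frame ![e, a, w, r, u, v] := by
      intro c hc
      have e0 := hc 0; have e1 := hc 1; have e2 := hc 2; have e3 := hc 3; have e4 := hc 4; have e5 := hc 5
      have hae : S.B a e = 0 := by rw [S.symm]; exact hea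
      have hrw' : S.B r w = 0 := by rw [S.symm]; exact hrw
      have hre' : S.B r e = 0 := by rw [S.symm]; exact hre
      have hra' : S.B r a = 0 := by rw [S.symm]; exact hra
      have u0 : S.B u e = 0 := by rw [S.symm]; exact hu' 0
      have u1 : S.B u a = 0 := by rw [S.symm]; exact hu' 1
      have u2 : S.B u r = 0 := by rw [S.symm]; exact hu' 2
      have u3 : S.B u w = 1 := by rw [S.symm]; exact hu
      have v0 : S.B v e = 0 := by rw [S.symm]; exact hv' 0
      have v1 : S.B v a = 0 := by rw [S.symm]; exact hv' 1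
      have v2 : S.B v w = 0 := by rw [S.symm]; exact hv' 2
      have v3 : S.B v r = 1 := by rw [S.symm]; exact hv
      have hu0 : S.B e u = 0 := hu' 0
      have hu1 : S.B a u = 0 := hu' 1
      have hu2 : S.B r u = 0 := hu' 2
      have hv0 : S.B e v = 0 := hv' 0
      have hv1 : S.B a v = 0 := hv' 1
      have hv2 : S.B w v = 0 := hv' 2
      simp [Fin.sum_univ_succ, hee, hea, hae, hew, hwe, haw, hwa, hre, hre', hra, hra', hrw, hrw', hw.1, hrs.1,
        show S.B a a = -1 from ha, u0, u1, u2, u3, v0, v1, v2, v3, hu, hv, hu0, hu1, hu2, hv0, hv1,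
        hv2] at e0 e1 e2 e3 e4 e5
      have c0 : c 0 = 0 := e0
      have c1 : c 1 = 0 := e1
      have c4 : c 4 = 0 := e2
      have c5 : c 5 = 0 := e3
      have c2 : c 2 = 0 := by simpa [c4, c5] using e4
      have c3 : c 3 = 0 := by simpa [c4, c5] using e5
      funext i; fin_cases i <;> assumption
    have := S.finrank_perp_frame _ hF
    omega

variable (A)

/-- `y` lies over the line of `w`. -/
def Over (y : G) (w : V) : Prop :=
  y ∈ D ∧ ¬ Commute d y ∧ S.Sing w ∧ ∀ a, S.Pt a → (Commute (C.φ a) y ↔ S.B w a = 0)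

/-- The common partners fill the perpendicular space of their line. -/
def Fills : Prop :=
  ∀ y ∈ D, ¬ Commute d y → ∀ w : V, S.Sing w → (∀ f, S.Pt f → Commute (C.φ f) y → S.B w f = 0) →
    (∀ f a, S.Pt f → S.Pt a → Commute (C.φ f) y → S.B w a = 0 → S.B f a = 0 → Commute (C.φ a) y) →
      (∃ f, S.Pt f ∧ Commute (C.φ f) y) → ∀ a, S.Pt a → S.B w a = 0 → Commute (C.φ a) y

variable {A}

/-- In dimension at least seven they do. -/
theorem fills_of_dim (h7 : 7 ≤ finrank F3 V) : Atlas.Fills (C := C) := by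
  intro y _ _ w _ hsub hclosed ⟨f, hf, hfy⟩ a ha hwa
  obtain ⟨g, hg', hg⟩ := S.exists_pt ![f, a, w] ![f] (fun i => by
    rw [Subsingleton.elim i 0]; exact OSpace.mem_span_range ![f, a, w] 0) (S.gram_one' hf) (by omega)
  exact hclosed g a hg ha (hclosed f g hf hg hfy (hg' 2) (hg' 0)) hwa (by rw [S.symm]; exact hg' 1)

theorem AtPt.over (hF : Atlas.Fills (C := C)) {y : G} {e w : V} (h : A.AtPt y e w) :
    Atlas.Over (C := C) y w := by
  obtain ⟨hy, hdy, hc, -⟩ := h.not_commute
  obtain ⟨he, hw, -, -⟩ := id h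
  have hsub : ∀ f, S.Pt f → Commute (C.φ f) y → S.B w f = 0 := fun f hf hfy => by
    obtain ⟨_, _, hfw, -⟩ := line_const h hf hfy
    rw [S.symm]; exact hfw
  refine ⟨hy, hdy, hw, fun a ha => ⟨hsub a ha, fun hwa => hF y hy hdy w hw hsub ?_ ⟨e, he, hc⟩ a ha hwa⟩⟩
  exact fun f a hf ha hfy hwa hfa => ((line_const h hf hfy).commute_iff ha hfa).2 hwa

omit [Finite V] in
theorem Over.smul {y : G} {w : V} (h : Atlas.Over (C := C) y w) {t : F3} (ht : t ≠ 0) :
    Atlas.Over (C := C) y (t • w) :=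
  ⟨h.1, h.2.1, ⟨by simp [h.2.2.1.1], smul_ne_zero ht h.2.2.1.2⟩, fun a ha => by
    rw [h.2.2.2 a ha, S.smul_left, mul_eq_zero]; simp [ht]⟩

theorem Over.unique (hm : 5 ≤ finrank F3 V) {y : G} {w w' : V} (h : Atlas.Over (C := C) y w)
    (h' : Atlas.Over (C := C) y w') : w' = w ∨ w' = -w := by
  by_contra hne
  obtain ⟨x, hx', hx, hxw⟩ := S.exists_pt_sep ![w] (![] : Fin 0 → V) (fun i => i.elim0) (S.gram_zero _)
    (by omega) (u := w') (OSpace.not_mem_span_one fun t ht => by
      rcases f3_cases t with rfl | rfl | rfl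
      · exact h'.2.2.1.2 (by rw [ht, zero_smul])
      · exact hne (Or.inl (by rw [ht, one_smul]))
      · exact hne (Or.inr (by rw [ht, neg_one_smul])))
  exact hxw ((h'.2.2.2 x hx).1 ((h.2.2.2 x hx).2 (hx' 0)))

variable (hF : Atlas.Fills (C := C))
include hF

theorem exists_over (A : Atlas C) (hex : ∀ y ∈ D, ¬ Commute d y → ∃ a, S.Pt a ∧ Commute (C.φ a) y) {y : G}
    (hy : y ∈ D) (hdy : ¬ Commute d y) : ∃ w, Atlas.Over (C := C) y w := by
  obtain ⟨e, he, hc⟩ := hex y hy hdy
  obtain ⟨w, hw⟩ := exists_atPt (A := A) hy hdy he hc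
  exact ⟨w, hw.over hF⟩

theorem Over.atPt {y : G} {e w : V} (h : Atlas.Over (C := C) y w) (A : Atlas C) (he : S.Pt e)
    (hew : S.B e w = 0) : A.AtPt y e w := by
  obtain ⟨r, hr⟩ := exists_atPt (A := A) h.1 h.2.1 he ((h.2.2.2 e he).2 (by rw [S.symm]; exact hew))
  rcases Over.unique A.dim (hr.over hF) h with rfl | rfl
  · exact hr
  · exact hr.neg

theorem over_Θ (A : Atlas C) {e w : V} (he : S.Pt e) (hw : S.Sing w) (hew : S.B e w = 0) {σ : F3}
    (hσ : σ ≠ 0) : Atlas.Over (C := C) ((A.K e he).Θ (σ, w)) w :=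
  AtPt.over (A := A) hF (e := e) ⟨he, hw, hew, σ, hσ, rfl⟩

end Atlas

end CfsgLib.FischerOrth
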