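import Cfsg.Agent.FischerOrth.Geometry

/-!
# Rigidity of the points

A map of points keeping orthogonality and reflections is, up to signs, a linear isometry, unique up to a sign.
-/

set_option autoImplicit false

namespace CfsgLib.FischerOrth

open Module

namespace OSpace

variable {V : Type*} [AddCommGroup V] [Module F3 V] [Finite V] (S : OSpace V)
variable {V' : Type*} [AddCommGroup V'] [Module F3 V'] (S' : OSpace V')

theorem span_meeting (hm : 4 ≤ finrank F3 V) {a : V} (ha : S.Pt a) :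
    Submodule.span F3 {v | S.Pt v ∧ S.B a v ≠ 0} = ⊤ := by
  by_contra h
  obtain ⟨x, hx⟩ : ∃ x, x ∉ Submodule.span F3 {v | S.Pt v ∧ S.B a v ≠ 0} := by
    by_contra h'; push Not at h'; exact h (Submodule.eq_top_iff'.2 h')
  obtain ⟨L, hL, hLk⟩ := Submodule.exists_le_ker_of_notMem hx
  obtain ⟨z, hz⟩ := S.exists_repr L
  have hzN : ∀ v, S.Pt v → S.B a v ≠ 0 → S.B z v = 0 := fun v h1 h2 => by
    rw [hz]; exact LinearMap.mem_ker.1 (hLk (Submodule.subset_span ⟨h1, h2⟩))
  have haa : S.B a a = -1 := ha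
  have hza : S.B z a = 0 := hzN a ha (by rw [haa]; decide)
  have hzs : z ∉ Submodule.span F3 (Set.range ![a]) := not_mem_span_one fun t e => by
    rw [e, S.smul_left, haa] at hza
    have : t = 0 := by clear e; revert hza; revert t; decide
    rw [this, zero_smul] at e
    exact hL (by rw [← hz, e, map_zero]; rfl)
  obtain ⟨y, hy, hys, hzy⟩ := S.exists_sing_sep ![a] ![a] (fun i => mem_span_range _ i)
    (S.gram_one (by rw [haa]; decide)) (by omega) (z := z)
    (fun i => by rw [Subsingleton.elim i 0]; simpa [S.symm a z] using hza) hzs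
  have hay : S.B a y = 0 := by simpa using hy 0
  refine hzy ?_
  have := hzN (a + y) (by rw [Pt, S.quad_add, haa, hay, hys.1]; ring) (by rw [map_add, haa, hay]; decide)
  rwa [map_add, hza, zero_add] at this

/-- Two isometries agreeing up to signs on the points agree up to one sign. -/
theorem unique_up_to_sign (hm : 4 ≤ finrank F3 V) (L L' : V →ₗ[F3] V') (hL : ∀ x y, S'.B (L x) (L y) = S.B x y)
    (hL' : ∀ x y, S'.B (L' x) (L' y) = S.B x y) (h : ∀ a, S.Pt a → L' a = L a ∨ L' a = -L a) :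
    L' = L ∨ L' = -L := by
  obtain ⟨a, -, ha⟩ := S.exists_pt (![] : Fin 0 → V) (![] : Fin 0 → V) (fun i => i.elim0) (S.gram_zero _) (by omega)
  obtain ⟨ε, hε, hεa⟩ : ∃ ε : F3, ε ≠ 0 ∧ L' a = ε • L a := by
    rcases h a ha with e | e
    · exact ⟨1, one_ne_zero, by rw [e, one_smul]⟩
    · exact ⟨-1, by decide, by rw [e, neg_one_smul]⟩
  have hall : ∀ v ∈ {v | S.Pt v ∧ S.B a v ≠ 0}, L' v = (ε • L) v := fun v ⟨hv, hav⟩ => by
    obtain ⟨η, hη⟩ : ∃ η : F3, L' v = η • L v := by
      rcases h v hv with e | e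
      · exact ⟨1, by rw [e, one_smul]⟩
      · exact ⟨-1, by rw [e, neg_one_smul]⟩
    have e := hL' a v
    rw [hεa, hη, S'.smul_left, map_smul, smul_eq_mul, hL] at e
    have : η = ε := by
      revert e hav hε; generalize S.B a v = t; clear hη hεa; revert ε η t; decide
    rw [hη, this]; rfl
  have hLL : L' = ε • L := LinearMap.ext_on (S.span_meeting hm ha) hall
  rcases (f3_cases ε).resolve_left hε with rfl | rfl
  · exact Or.inl (by rw [hLL, one_smul])
  · exact Or.inr (by rw [hLL, neg_one_smul])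

variable [Finite V']

/-- A map of points keeping orthogonality and reflections comes from a linear isometry. -/
theorem rigid (hm : 4 ≤ finrank F3 V) (hd : finrank F3 V' ≤ finrank F3 V) (θ : V → V')
    (hpt : ∀ a, S.Pt a → S'.Pt (θ a))
    (hzero : ∀ a b, S.Pt a → S.Pt b → (S'.B (θ a) (θ b) = 0 ↔ S.B a b = 0))
    (hrefl : ∀ a b, S.Pt a → S.Pt b →
      θ (S.refl a b) = S'.refl (θ a) (θ b) ∨ θ (S.refl a b) = -S'.refl (θ a) (θ b)) :
    ∃ L : V →ₗ[F3] V', (∀ x y, S'.B (L x) (L y) = S.B x y) ∧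
      ∀ a, S.Pt a → θ a = L a ∨ θ a = -L a := by
  obtain ⟨a, -, ha⟩ := S.exists_pt (![] : Fin 0 → V) (![] : Fin 0 → V) (fun i => i.elim0) (S.gram_zero _) (by omega)
  set N : Set V := {v | S.Pt v ∧ S.B a v ≠ 0}
  have haa : S.B a a = -1 := ha
  -- products around a triangle
  have tri : ∀ u v w, S.Pt u → S.Pt v → S.Pt w → S.B u v ≠ 0 → S.B u w ≠ 0 → S.B v w ≠ 0 →
      S'.B (θ u) (θ v) * S'.B (θ u) (θ w) * S'.B (θ v) (θ w) = S.B u v * S.B u w * S.B v w := by
    intro u v w hu hv hw h1 h2 h3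
    have n1 := (not_congr (hzero u v hu hv)).2 h1
    have n2 := (not_congr (hzero u w hu hw)).2 h2
    have n3 := (not_congr (hzero v w hv hw)).2 h3
    have key : S'.B (θ w) (S'.refl (θ u) (θ v)) = 0 ↔ S.B w (S.refl u v) = 0 := by
      rw [← hzero w _ hw (S.pt_refl hu hv)]
      rcases hrefl u v hu hv with e | e <;> simp [e]
    simp only [refl, map_sub, map_smul, smul_eq_mul, S.symm w, S'.symm (θ w)] at key
    have tab : ∀ a b c a' b' c' : F3, a ≠ 0 → b ≠ 0 → c ≠ 0 → a' ≠ 0 → b' ≠ 0 → c' ≠ 0 →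
        (c' - a' * b' = 0 ↔ c - a * b = 0) → a' * b' * c' = a * b * c := by decide
    exact tab _ _ _ _ _ _ h1 h2 h3 n1 n2 n3 key
  -- normalised images of the points meeting `a`
  have hs : ∀ v ∈ N, ∃ y, (θ v = y ∨ θ v = -y) ∧ S'.B (θ a) y = S.B a v := fun v ⟨hv, hav⟩ => by
    have hne := (not_congr (hzero a v ha hv)).2 hav
    rcases (by decide : ∀ p q : F3, p ≠ 0 → q ≠ 0 → p = q ∨ -p = q) _ _ hne hav with e | e
    · exact ⟨θ v, Or.inl rfl, e⟩
    · exact ⟨-θ v, Or.inr (neg_neg _).symm, by rw [map_neg, e]⟩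
  choose s hsθ hsa using hs
  have hss : ∀ v (hv : v ∈ N) w (hw : w ∈ N), S'.B (s v hv) (s w hw) = S.B v w := fun v hv w hw => by
    have hsgn : ∀ v (hv : v ∈ N), ∃ ε : F3, ε ≠ 0 ∧ s v hv = ε • θ v := fun v hv => by
      rcases hsθ v hv with e | e
      · exact ⟨1, one_ne_zero, by rw [one_smul, e]⟩
      · exact ⟨-1, by decide, by rw [e, neg_one_smul, neg_neg]⟩
    obtain ⟨ε, hε, e1⟩ := hsgn v hv
    obtain ⟨η, hη, e2⟩ := hsgn w hw
    have p1 := hsa v hv
    have p2 := hsa w hw
    rw [e1, map_smul, smul_eq_mul] at p1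
    rw [e2, map_smul, smul_eq_mul] at p2
    rw [e1, e2, S'.smul_left, map_smul, smul_eq_mul]
    by_cases h3 : S.B v w = 0
    · rw [(hzero v w hv.1 hw.1).2 h3, h3, mul_zero, mul_zero]
    · have t := tri a v w ha hv.1 hw.1 hv.2 hw.2 h3
      rw [← p1, ← p2] at t
      have n1 := (not_congr (hzero a v ha hv.1)).2 hv.2
      have n2 := (not_congr (hzero a w ha hw.1)).2 hw.2
      have q : S'.B (θ v) (θ w) = ε * η * S.B v w :=
        mul_left_cancel₀ (mul_ne_zero n1 n2) (by linear_combination t)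
      rw [q]
      linear_combination (S.B v w * (η * η)) * f3_sq hε + S.B v w * f3_sq hη
  -- a basis among those points
  obtain ⟨b, hbN, hbspan, hbli⟩ := exists_linearIndependent F3 N
  rw [S.span_meeting hm ha] at hbspan
  let bas : Basis b F3 V := Basis.mk hbli (by rw [Subtype.range_coe, hbspan])
  set L : V →ₗ[F3] V' := bas.constr F3 fun i : b => s i.1 (hbN i.2)
  have hLb : ∀ i : b, L i.1 = s i.1 (hbN i.2) := fun i => by
    exact (congrArg L (Basis.mk_apply hbli _ i).symm).trans (bas.constr_basis _ _ _)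
  have hbil : S'.B.compl₁₂ L L = S.B := by
    refine bas.ext fun i => bas.ext fun l => ?_
    rw [LinearMap.compl₁₂_apply, show bas i = i.1 from Basis.mk_apply hbli _ i,
      show bas l = l.1 from Basis.mk_apply hbli _ l, hLb, hLb, hss]
  have hL : ∀ x y, S'.B (L x) (L y) = S.B x y := fun x y => LinearMap.congr_fun₂ hbil x y
  have hinj : Function.Injective L := by
    rw [← LinearMap.ker_eq_bot, LinearMap.ker_eq_bot']
    exact fun x hx => S.nd x fun y => by rw [← hL, hx, map_zero]; rfl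
  have hsur : Function.Surjective L := by
    rw [← LinearMap.range_eq_top]
    refine Submodule.eq_top_of_finrank_eq ?_
    have h1 := Submodule.finrank_le (LinearMap.range L)
    rw [LinearMap.finrank_range_of_inj hinj] at h1 ⊢
    omega
  have hN : ∀ v (hv : v ∈ N), L v = s v hv := fun v hv => by
    refine sub_eq_zero.1 (S'.nd _ fun y => ?_)
    obtain ⟨x, rfl⟩ := hsur y
    rw [S'.sub_left, sub_eq_zero, hL]
    have : (S.B v : V →ₗ[F3] F3) = (S'.B (s v hv)).comp L :=
      bas.ext fun l => by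
        rw [LinearMap.comp_apply, show bas l = l.1 from Basis.mk_apply hbli _ l, hLb, hss]
    exact LinearMap.congr_fun this x
  have hNθ : ∀ v ∈ N, θ v = L v ∨ θ v = -L v := fun v hv => by rw [hN v hv]; exact hsθ v hv
  refine ⟨L, hL, fun u hu => ?_⟩
  by_cases hau : S.B a u ≠ 0
  · exact hNθ u ⟨hu, hau⟩
  push Not at hau
  obtain ⟨y, hy, hys, huy⟩ := S.exists_sing_sep ![a] ![a] (fun i => mem_span_range _ i)
    (S.gram_one (by rw [haa]; decide)) (by omega) (z := u) (fun i => by rw [Subsingleton.elim i 0]; simpa using hau)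
    (not_mem_span_one fun t e => by
      have hu' : S.B u u = -1 := hu
      rw [e, map_smul, smul_eq_mul, haa] at hau
      have : t = 0 := by clear e; revert hau; revert t; decide
      rw [e, this, zero_smul, map_zero] at hu'
      exact absurd hu'.symm (by simp))
  have hay : S.B a y = 0 := by simpa using hy 0
  have hv : a + y ∈ N := ⟨by rw [Pt, S.quad_add, haa, hay, hys.1]; ring, by rw [map_add, haa, hay]; decide⟩
  have hv' : S.refl (a + y) u ∈ N := ⟨S.pt_refl hv.1 hu, by
    simp only [refl, map_sub, map_smul, map_add, LinearMap.add_apply, smul_eq_mul, hau, hay, haa, zero_add,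
      S.symm y u]
    revert huy; generalize S.B u y = t; revert t; decide⟩
  have hr : θ u = S'.refl (θ (a + y)) (θ (S.refl (a + y) u)) ∨
      θ u = -S'.refl (θ (a + y)) (θ (S.refl (a + y) u)) := by
    have := hrefl _ _ hv.1 hv'.1
    rwa [S.refl_refl hv.1] at this
  have hlin : S'.refl (L (a + y)) (L (S.refl (a + y) u)) = L u := by
    conv_rhs => rw [← S.refl_refl hv.1 u]
    simp only [refl, hL, map_sub, map_smul]
  rcases hNθ _ hv with e1 | e1 <;> rcases hNθ _ hv' with e2 | e2 <;>
    simp only [e1, e2, S'.refl_neg_left, S'.refl_neg_right, hlin, neg_neg] at hr <;> tauto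

end OSpace

end CfsgLib.FischerOrth
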