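import Cfsg.Agent.FischerOrth.Line

/-!
# Orientation of the lines

Above every singular line lie two members not commuting with the base.  They can be labelled by the two vectors
of the line so that members above `w`, `u` commute exactly when `B w u = 1`.  This gives a labelling of the whole
class by the points of the space of one dimension more.
-/

set_option autoImplicit false

namespace CfsgLib.FischerOrth

open Cfsg CfsgLib.FischerTypes Module

variable {G : Type*} [Group G] {D : Set G}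
variable {V : Type*} [AddCommGroup V] [Module F3 V] [Finite V] {S : OSpace V} {d : G}

/-- The facts used about all members. -/
structure Ctx (D : Set G) (S : OSpace V) : Prop where
  dim : 5 ≤ finrank F3 V
  grp : IsThreeTranspositionGroup D
  conj : ∀ x ∈ D, ∀ y ∈ D, ∃ g : G, g * x * g⁻¹ = y
  fills : ∀ x ∈ D, ∀ C : Coord D S x, Atlas.Fills (C := C)
  common : ∀ x ∈ D, ∀ y ∈ D, ¬ Commute x y → ∃ a ∈ perp D x, Commute a y

namespace Ctx

variable (X : Ctx D S) (C : Coord D S d) (hd : d ∈ D)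
include X

theorem exists_partner (C' : Coord D S d) (hd' : d ∈ D) {y : G} (hy : y ∈ D) (hdy : ¬ Commute d y) :
    ∃ a, S.Pt a ∧ Commute (C'.φ a) y := by
  obtain ⟨a, ha, hc⟩ := X.common d hd' y hy hdy
  obtain ⟨p, hp, rfl⟩ := C'.surj a ha
  exact ⟨p, hp, hc⟩

include hd

theorem atlas : Nonempty (Atlas C) :=
  exists_atlas X.dim X.grp (X.conj d hd) hd C

theorem exists_over {y : G} (hy : y ∈ D) (hdy : ¬ Commute d y) : ∃ w, Atlas.Over (C := C) y w := by
  obtain ⟨A⟩ := X.atlas C hd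
  exact Atlas.exists_over (X.fills d hd C) A (fun _ => X.exists_partner C hd) hy hdy

/-- Two commuting members have a common partner commuting with `d`. -/
theorem exists_common_point {y z : G} (hy : y ∈ D) (hz : z ∈ D) (hdy : ¬ Commute d y) (hc : Commute y z)
    (hne : z ≠ y) : ∃ a, S.Pt a ∧ Commute (C.φ a) y ∧ Commute (C.φ a) z := by
  obtain ⟨g, hg⟩ := X.conj d hd y hy
  set C' : Coord D S y := (C.map X.grp g).cast hg
  obtain ⟨r, hr, hrz⟩ := C'.surj z ⟨hz, hne, hc⟩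
  obtain ⟨w, hw⟩ := X.exists_over C' hy hd (fun h => hdy h.symm)
  obtain ⟨a', ha', ha⟩ := S.exists_pt ![w, r] ![r] (fun i => by
    rw [Subsingleton.elim i 0]; exact OSpace.mem_span_range ![w, r] 1) (S.gram_one' hr) (by have := X.dim; omega)
  have hmem := C'.mem a' ha
  have hcd : Commute (C'.φ a') d := (hw.2.2.2 a' ha).2 (ha' 0)
  have hcz : Commute (C'.φ a') z := by
    rw [← hrz]; exact (C'.commute_iff ha hr).2 (Or.inl (by rw [S.symm]; exact ha' 1))
  obtain ⟨a, haa, e⟩ := C.surj (C'.φ a') ⟨hmem.1, fun h => hdy (h ▸ hmem.2.2).symm, hcd.symm⟩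
  exact ⟨a, haa, by rw [e]; exact hmem.2.2.symm, by rw [e]; exact hcz⟩

variable {C}

/-- Reading two members at a common partner. -/
theorem commute_read (A : Atlas C) {y z : G} {w u e : V} {σ τ : F3} (he : S.Pt e) (hσ : σ ≠ 0) (hτ : τ ≠ 0)
    (hw : S.Sing w) (hu : S.Sing u) (hew : S.B e w = 0) (heu : S.B e u = 0) (hy : y = (A.K e he).Θ (σ, w))
    (hz : z = (A.K e he).Θ (τ, u)) : Commute y z ↔ S.B w u = σ * τ ∨ z = y := by
  subst hy hz
  rw [(A.K e he).commute_iff he (p := (σ, w)) (q := (τ, u)) hew (Atlas.pt_unit hσ hw) heu (Atlas.pt_unit hτ hu),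
    (A.K e he).eq_iff he (p := (τ, u)) (q := (σ, w)) heu (Atlas.pt_unit hτ hu) hew (Atlas.pt_unit hσ hw),
    S.ext_apply]
  refine or_congr ⟨fun h => ?_, fun h => ?_⟩ (or_congr ⟨fun h => h.symm, fun h => h.symm⟩
    ⟨fun h => (neg_eq_iff_eq_neg.2 h).symm, fun h => (neg_eq_iff_eq_neg.2 h).symm⟩)
  · linear_combination h
  · linear_combination h

theorem two_values {w u : V} {y z : G} (hne : S.B w u ≠ 0) (hz : z = y) (hy : Atlas.Over (C := C) y w)
    (hzo : Atlas.Over (C := C) z u) : False := by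
  subst hz
  rcases Atlas.Over.unique X.dim hy hzo with rfl | rfl
  · exact hne hy.2.2.1.1
  · exact hne (by rw [map_neg, hy.2.2.1.1, neg_zero])

/-- Members above non-orthogonal lines, read at a common partner. -/
theorem commute_of_read (A : Atlas C) {y z : G} {w u e : V} (hy : Atlas.Over (C := C) y w)
    (hz : Atlas.Over (C := C) z u) (hne : S.B w u ≠ 0) (he : S.Pt e) (hew : S.B e w = 0) (heu : S.B e u = 0)
    {σ τ : F3} (hσ : σ ≠ 0) (hτ : τ ≠ 0) (ey : y = (A.K e he).Θ (σ, w)) (ez : z = (A.K e he).Θ (τ, u)) :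
    (Commute y z ↔ S.B w u = 1) ↔ σ = τ := by
  rw [X.commute_read hd A he hσ hτ hy.2.2.1 hz.2.2.1 hew heu ey ez,
    or_iff_left fun h => X.two_values hd hne h hy hz]
  revert hne hσ hτ
  generalize S.B w u = b
  clear * -
  revert σ τ b
  decide

end Ctx

/-- The orientation of `(y, w)` agrees with that of `(z, u)`. -/
def Same (S : OSpace V) (y : G) (w : V) (z : G) (u : V) : Prop := Commute y z ↔ S.B w u = 1

omit [Finite V] in
theorem Same.symm {y z : G} {w u : V} (h : Same S y w z u) : Same S z u y w := by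
  unfold Same at *
  rw [S.symm u w, ← h]
  exact ⟨fun h => h.symm, fun h => h.symm⟩

namespace Ctx

variable (X : Ctx D S) {C : Coord D S d} (hd : d ∈ D)
include X hd

theorem exists_read {w u : V} (hw : S.Sing w) (hu : S.Sing u) (hne : S.B w u ≠ 0) :
    ∃ e, S.Pt e ∧ S.B e w = 0 ∧ S.B e u = 0 := by
  obtain ⟨e, he', he⟩ := S.exists_pt ![w, u] ![w, u] (fun i => OSpace.mem_span_range _ i)
    (S.gram_two (by rw [hw.1, zero_mul, zero_sub, neg_ne_zero]; exact mul_ne_zero hne hne))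
    (by have := X.dim; omega)
  exact ⟨e, he, by rw [S.symm]; exact he' 0, by rw [S.symm]; exact he' 1⟩

theorem same_trans {y₁ y₂ y₃ : G} {w₁ w₂ w₃ : V} (h₁ : Atlas.Over (C := C) y₁ w₁)
    (h₂ : Atlas.Over (C := C) y₂ w₂) (h₃ : Atlas.Over (C := C) y₃ w₃) (n₁₂ : S.B w₁ w₂ ≠ 0)
    (n₁₃ : S.B w₁ w₃ ≠ 0) (n₂₃ : S.B w₂ w₃ ≠ 0) (s₁₂ : Same S y₁ w₁ y₂ w₂) (s₂₃ : Same S y₂ w₂ y₃ w₃) :
    Same S y₁ w₁ y₃ w₃ := by
  obtain ⟨A⟩ := X.atlas C hd
  obtain ⟨e, he', he⟩ := S.exists_pt ![w₁, w₂, w₃] ![w₁, w₂, w₃] (fun i => OSpace.mem_span_range _ i)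
    (S.gram_triangle h₁.2.2.1.1 h₂.2.2.1.1 h₃.2.2.1.1 n₁₂ n₁₃ n₂₃) (by have := X.dim; omega)
  have e₁ : S.B e w₁ = 0 := by rw [S.symm]; exact he' 0
  have e₂ : S.B e w₂ = 0 := by rw [S.symm]; exact he' 1
  have e₃ : S.B e w₃ = 0 := by rw [S.symm]; exact he' 2
  obtain ⟨_, -, -, σ₁, hσ₁, r₁⟩ := h₁.atPt (X.fills d hd C) A he e₁
  obtain ⟨_, -, -, σ₂, hσ₂, r₂⟩ := h₂.atPt (X.fills d hd C) A he e₂
  obtain ⟨_, -, -, σ₃, hσ₃, r₃⟩ := h₃.atPt (X.fills d hd C) A he e₃
  have a := (X.commute_of_read hd A h₁ h₂ n₁₂ he e₁ e₂ hσ₁ hσ₂ r₁ r₂).1 s₁₂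
  have b := (X.commute_of_read hd A h₂ h₃ n₂₃ he e₂ e₃ hσ₂ hσ₃ r₂ r₃).1 s₂₃
  exact (X.commute_of_read hd A h₁ h₃ n₁₃ he e₁ e₃ hσ₁ hσ₃ r₁ r₃).2 (a.trans b)

theorem exists_same {z : G} {u w : V} (hz : Atlas.Over (C := C) z u) (hw : S.Sing w) (hne : S.B w u ≠ 0) :
    ∃ y, Atlas.Over (C := C) y w ∧ Same S y w z u := by
  obtain ⟨A⟩ := X.atlas C hd
  obtain ⟨e, he, hew, heu⟩ := X.exists_read hd hw hz.2.2.1 hne
  obtain ⟨_, -, -, τ, hτ, r⟩ := hz.atPt (X.fills d hd C) A he heu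
  have ho := Atlas.over_Θ (X.fills d hd C) A he hw hew hτ
  exact ⟨_, ho, (X.commute_of_read hd A ho hz hne he hew heu hτ hτ rfl r).2 rfl⟩

theorem same_unique {z y y' : G} {u w : V} (hy : Atlas.Over (C := C) y w) (hy' : Atlas.Over (C := C) y' w)
    (hz : Atlas.Over (C := C) z u) (hne : S.B w u ≠ 0) (h : Same S y w z u) (h' : Same S y' w z u) : y' = y := by
  obtain ⟨A⟩ := X.atlas C hd
  obtain ⟨e, he, hew, heu⟩ := X.exists_read hd hy.2.2.1 hz.2.2.1 hne
  obtain ⟨_, -, -, τ, hτ, r⟩ := hz.atPt (X.fills d hd C) A he heu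
  obtain ⟨_, -, -, σ, hσ, ry⟩ := hy.atPt (X.fills d hd C) A he hew
  obtain ⟨_, -, -, σ', hσ', ry'⟩ := hy'.atPt (X.fills d hd C) A he hew
  have a := (X.commute_of_read hd A hy hz hne he hew heu hσ hτ ry r).1 h
  have b := (X.commute_of_read hd A hy' hz hne he hew heu hσ' hτ ry' r).1 h'
  rw [ry, ry', a, b]

theorem two_over {y₁ y₂ y₃ : G} {w : V} (h₁ : Atlas.Over (C := C) y₁ w) (h₂ : Atlas.Over (C := C) y₂ w)
    (h₃ : Atlas.Over (C := C) y₃ w) (h : y₁ ≠ y₂) : y₃ = y₁ ∨ y₃ = y₂ := by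
  obtain ⟨A⟩ := X.atlas C hd
  obtain ⟨e, he', he⟩ := S.exists_pt ![w] (![] : Fin 0 → V) (fun i => i.elim0) (S.gram_zero _)
    (by have := X.dim; omega)
  have hew : S.B e w = 0 := by rw [S.symm]; exact he' 0
  obtain ⟨_, -, -, σ₁, hσ₁, r₁⟩ := h₁.atPt (X.fills d hd C) A he hew
  obtain ⟨_, -, -, σ₂, hσ₂, r₂⟩ := h₂.atPt (X.fills d hd C) A he hew
  obtain ⟨_, -, -, σ₃, hσ₃, r₃⟩ := h₃.atPt (X.fills d hd C) A he hew
  have hs : σ₁ ≠ σ₂ := fun e' => h (by rw [r₁, r₂, e'])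
  have : σ₃ = σ₁ ∨ σ₃ = σ₂ := by
    clear * - hσ₁ hσ₂ hσ₃ hs
    revert σ₁ σ₂ σ₃; decide
  rcases this with rfl | rfl
  · exact Or.inl (r₃.trans r₁.symm)
  · exact Or.inr (r₃.trans r₂.symm)

theorem not_commute_same_line {y z : G} {w : V} (hy : Atlas.Over (C := C) y w)
    (hz : Atlas.Over (C := C) z w) (h : z ≠ y) : ¬ Commute y z := by
  obtain ⟨A⟩ := X.atlas C hd
  obtain ⟨e, he', he⟩ := S.exists_pt ![w] (![] : Fin 0 → V) (fun i => i.elim0) (S.gram_zero _)
    (by have := X.dim; omega)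
  have hew : S.B e w = 0 := by rw [S.symm]; exact he' 0
  obtain ⟨_, -, -, σ, hσ, r⟩ := hy.atPt (X.fills d hd C) A he hew
  obtain ⟨_, -, -, τ, hτ, r'⟩ := hz.atPt (X.fills d hd C) A he hew
  rw [X.commute_read hd A he hσ hτ hy.2.2.1 hy.2.2.1 hew hew r r', hy.2.2.1.1]
  rintro (h0 | h0)
  · exact mul_ne_zero hσ hτ h0.symm
  · exact h h0

theorem nonorth_of_commute {y z : G} {w u : V} (hy : Atlas.Over (C := C) y w) (hz : Atlas.Over (C := C) z u)
    (hne : z ≠ y) (hc : Commute y z) : S.B w u ≠ 0 := by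
  obtain ⟨A⟩ := X.atlas C hd
  obtain ⟨e, he, h1, h2⟩ := X.exists_common_point C hd hy.1 hz.1 hy.2.1 hc hne
  have hew : S.B e w = 0 := by rw [S.symm]; exact (hy.2.2.2 e he).1 h1
  have heu : S.B e u = 0 := by rw [S.symm]; exact (hz.2.2.2 e he).1 h2
  obtain ⟨_, -, -, σ, hσ, r⟩ := hy.atPt (X.fills d hd C) A he hew
  obtain ⟨_, -, -, τ, hτ, r'⟩ := hz.atPt (X.fills d hd C) A he heu
  rw [((X.commute_read hd A he hσ hτ hy.2.2.1 hz.2.2.1 hew heu r r').1 hc).resolve_right hne]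
  exact mul_ne_zero hσ hτ

theorem exists_meet {w₀ w : V} (h₀ : S.Sing w₀) (hw : S.Sing w) :
    ∃ x, S.Sing x ∧ S.B w₀ x ≠ 0 ∧ S.B w x ≠ 0 := by
  by_cases h : S.B w₀ w = 0
  · exact S.bridge_one h₀ hw h
  · obtain ⟨e, he, e1, e2⟩ := X.exists_read hd h₀ hw h
    have e1' : S.B w₀ e = 0 := by rw [S.symm]; exact e1
    have e2' : S.B w e = 0 := by rw [S.symm]; exact e2
    set b := S.B w₀ w with hb
    have hb' : S.B w w₀ = b := by rw [S.symm]
    refine ⟨w₀ - b • w + e, ⟨?_, fun h0 => ?_⟩, ?_, ?_⟩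
    · simp only [map_add, map_sub, map_smul, LinearMap.add_apply, LinearMap.sub_apply, LinearMap.smul_apply,
        smul_eq_mul, h₀.1, hw.1, e1, e2, e1', e2', hb', ← hb, show S.B e e = -1 from he]
      clear * - h
      revert h; generalize b = c; revert c; decide
    · have := congrArg (S.B e) h0
      simp [e1, e2, show S.B e e = -1 from he] at this
    · simp only [map_add, map_sub, map_smul, smul_eq_mul, h₀.1, e1', ← hb, add_zero, zero_sub, neg_ne_zero]
      exact mul_ne_zero h h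
    · simp only [map_add, map_sub, map_smul, smul_eq_mul, hw.1, e2', hb', mul_zero, add_zero, sub_zero]
      exact h

/-- `(y, w)` is oriented like the base pair. -/
theorem exists_orient {y₀ : G} {w₀ : V} (h₀ : Atlas.Over (C := C) y₀ w₀) {w : V} (hw : S.Sing w) :
    ∃ y, Atlas.Over (C := C) y w ∧ ∀ z u, Atlas.Over (C := C) z u → S.B w₀ u ≠ 0 → S.B w u ≠ 0 →
      Same S y₀ w₀ z u → Same S y w z u := by
  obtain ⟨u₁, hu₁, n₁, n₁'⟩ := X.exists_meet hd h₀.2.2.1 hw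
  obtain ⟨z₁, hz₁, s₁⟩ := X.exists_same hd h₀ hu₁ (by rwa [S.symm])
  replace s₁ := s₁.symm
  obtain ⟨y, hy, sy⟩ := X.exists_same hd hz₁ hw n₁'
  refine ⟨y, hy, fun z u hz n n' s => ?_⟩
  by_cases hw0 : S.B w₀ w ≠ 0
  · -- all three lines meet
    have t₁ : Same S y₀ w₀ y w :=
      X.same_trans hd h₀ hz₁ hy n₁ hw0 (by rwa [S.symm]) s₁ sy.symm
    exact X.same_trans hd hy h₀ hz (by rwa [S.symm]) n' n t₁.symm s
  push Not at hw0
  by_cases hline : ∃ t : F3, w = t • w₀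
  · obtain ⟨t, rfl⟩ := hline
    rcases f3_cases t with rfl | rfl | rfl
    · exact absurd (zero_smul _ _) hw.2
    · rw [one_smul] at *
      rw [X.same_unique hd h₀ hy hz₁ n₁ s₁ sy]
      exact s
    · rw [neg_one_smul] at *
      have hy' : Atlas.Over (C := C) y w₀ := by
        have := hy.smul (t := -1) (by decide)
        rwa [neg_one_smul, neg_neg] at this
      have hne : y ≠ y₀ := fun e => by
        subst e
        unfold Same at s₁ sy
        rw [map_neg, LinearMap.neg_apply] at sy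
        have := s₁.symm.trans sy
        revert this n₁; generalize S.B w₀ u₁ = b; revert b; decide
      obtain ⟨A⟩ := X.atlas C hd
      obtain ⟨e, he, hew, heu⟩ := X.exists_read hd h₀.2.2.1 hz.2.2.1 n
      obtain ⟨_, -, -, σ₀, hσ₀, r₀⟩ := h₀.atPt (X.fills d hd C) A he hew
      obtain ⟨_, -, -, σ, hσ, r⟩ := hy'.atPt (X.fills d hd C) A he hew
      obtain ⟨_, -, -, τ, hτ, r'⟩ := hz.atPt (X.fills d hd C) A he heu
      have a := (X.commute_of_read hd A h₀ hz n he hew heu hσ₀ hτ r₀ r').1 s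
      have b : σ ≠ σ₀ := fun e' => hne (by rw [r, r₀, e'])
      have key := X.commute_of_read hd A hy' hz n he hew heu hσ hτ r r'
      unfold Same
      rw [map_neg, LinearMap.neg_apply]
      have hn : ¬ σ = τ := a ▸ b
      rw [← key] at hn
      revert hn n
      generalize S.B w₀ u = c
      intro n hn
      by_cases hc : Commute y z
      · simp only [hc, true_iff] at hn ⊢; revert hn n; clear * -; revert c; decide
      · simp only [hc, false_iff] at hn ⊢; revert hn n; clear * -; revert c; decide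
  · push Not at hline
    by_cases h1 : S.B u₁ u = 0
    · obtain ⟨x, hx, x₀, xu₁, xw, xu⟩ := S.bridge_four X.dim h₀.2.2.1 hz₁.2.2.1 hw hz.2.2.1 n₁ n hw0 h1
        (by rwa [S.symm]) (by rwa [S.symm]) hline
      obtain ⟨zx, hzx, sx⟩ := X.exists_same hd h₀ hx (by rwa [S.symm])
      replace sx := sx.symm
      have a : Same S z₁ u₁ zx x := X.same_trans hd hz₁ h₀ hzx (by rwa [S.symm]) xu₁ x₀ s₁.symm sx
      have b : Same S y w zx x := X.same_trans hd hy hz₁ hzx n₁' xw xu₁ sy a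
      have c : Same S zx x z u := X.same_trans hd hzx h₀ hz (by rwa [S.symm]) (by rwa [S.symm]) n sx.symm s
      exact X.same_trans hd hy hzx hz xw n' (by rwa [S.symm]) b c
    · have a : Same S z₁ u₁ z u := X.same_trans hd hz₁ h₀ hz (by rwa [S.symm]) h1 n s₁.symm s
      exact X.same_trans hd hy hz₁ hz n₁' n' h1 sy a

/-- Orientations of all the singular vectors. -/
theorem exists_labels {y₀ : G} {w₀ : V} (h₀ : Atlas.Over (C := C) y₀ w₀) :
    ∃ Φ : V → G, (∀ w, S.Sing w → Atlas.Over (C := C) (Φ w) w) ∧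
      (∀ y ∈ D, ¬ Commute d y → ∃ w, S.Sing w ∧ Φ w = y) ∧
      (∀ w u, S.Sing w → S.Sing u → Φ u = Φ w → u = w) ∧
      ∀ w u, S.Sing w → S.Sing u → (Commute (Φ w) (Φ u) ↔ S.B w u = 1 ∨ u = w) := by
  classical
  set Φ : V → G := fun w => if hw : S.Sing w then (X.exists_orient hd h₀ hw).choose else 1
  have hΦ : ∀ w, S.Sing w → Atlas.Over (C := C) (Φ w) w ∧ ∀ z u, Atlas.Over (C := C) z u → S.B w₀ u ≠ 0 →
      S.B w u ≠ 0 → Same S y₀ w₀ z u → Same S (Φ w) w z u := fun w hw => by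
    simp only [Φ, dif_pos hw]; exact (X.exists_orient hd h₀ hw).choose_spec
  have hbase : ∀ u, S.Sing u → S.B w₀ u ≠ 0 → Same S y₀ w₀ (Φ u) u := fun u hu n => by
    obtain ⟨x, hx, n1, n2⟩ := X.exists_meet hd h₀.2.2.1 hu
    obtain ⟨zx, hzx, sx⟩ := X.exists_same hd h₀ hx (by rwa [S.symm])
    exact X.same_trans hd h₀ hzx (hΦ u hu).1 n1 n (by rwa [S.symm]) sx.symm
      ((hΦ u hu).2 zx x hzx n1 n2 sx.symm).symm
  have hsame : ∀ w u, S.Sing w → S.Sing u → S.B w u ≠ 0 → Same S (Φ w) w (Φ u) u := fun w u hw hu n => by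
    by_cases n1 : S.B w₀ u ≠ 0
    · exact (hΦ w hw).2 _ _ (hΦ u hu).1 n1 n (hbase u hu n1)
    by_cases n2 : S.B w₀ w ≠ 0
    · exact ((hΦ u hu).2 _ _ (hΦ w hw).1 n2 (by rwa [S.symm]) (hbase w hw n2)).symm
    push Not at n1 n2
    obtain ⟨x, hx, x0, x1, x2⟩ := S.bridge_two h₀.2.2.1 hw hu n2 n1 n
    obtain ⟨zx, hzx, sx⟩ := X.exists_same hd h₀ hx (by rwa [S.symm])
    exact X.same_trans hd (hΦ w hw).1 hzx (hΦ u hu).1 x1 n (by rwa [S.symm])
      ((hΦ w hw).2 zx x hzx x0 x1 sx.symm) ((hΦ u hu).2 zx x hzx x0 x2 sx.symm).symm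
  have hneg : ∀ w, S.Sing w → Φ (-w) ≠ Φ w := fun w hw he => by
    obtain ⟨u, hu, -, n⟩ := X.exists_meet hd h₀.2.2.1 hw
    have a := hsame w u hw hu n
    have b := hsame (-w) u (S.sing_neg hw) hu (by simpa using n)
    unfold Same at a b
    rw [he, map_neg, LinearMap.neg_apply] at b
    have := a.symm.trans b
    revert this n; generalize S.B w u = c; revert c; decide
  have hline : ∀ w u, S.Sing w → S.Sing u → Φ u = Φ w → u = w := fun w u hw hu he => by
    rcases Atlas.Over.unique X.dim (hΦ w hw).1 (he ▸ (hΦ u hu).1) with rfl | rfl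
    · rfl
    · exact absurd he (hneg w hw)
  refine ⟨Φ, fun w hw => (hΦ w hw).1, fun y hy hdy => ?_, hline, fun w u hw hu => ?_⟩
  · obtain ⟨w, hw⟩ := X.exists_over C hd hy hdy
    have h1 := (hΦ w hw.2.2.1).1
    have h2 : Atlas.Over (C := C) (Φ (-w)) w := by
      have := ((hΦ (-w) (S.sing_neg hw.2.2.1)).1).smul (t := -1) (by decide)
      rwa [neg_one_smul, neg_neg] at this
    rcases X.two_over hd h1 h2 hw (hneg w hw.2.2.1).symm with e | e
    · exact ⟨w, hw.2.2.1, e.symm⟩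
    · exact ⟨-w, S.sing_neg hw.2.2.1, e.symm⟩
  · constructor
    · intro hc
      by_cases hne : Φ u = Φ w
      · exact Or.inr (hline w u hw hu hne)
      · exact Or.inl ((hsame w u hw hu (X.nonorth_of_commute hd (hΦ w hw).1 (hΦ u hu).1 hne hc)).1 hc)
    · rintro (h | rfl)
      · exact (hsame w u hw hu (by rw [h]; decide)).2 h
      · exact Commute.refl _

end Ctx

end CfsgLib.FischerOrth
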