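import Cfsg.Agent.FischerOrth.Coord
import Cfsg.Agent.FischerOrth.SmallDim.Models
import Cfsg.Agent.FischerThm.StdForm
import Cfsg.Agent.FischerThm.Srg

/-!
# Dimensions five and six: all points perpendicular to the singular vector are common partners

The common partners form a union of orthogonality classes; a proper union is excluded by the integrality
conditions.
-/

set_option autoImplicit false

universe u

namespace CfsgLib.FischerOrth

open Cfsg CfsgLib.FischerTypes

namespace SmallDim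

section
variable {V : Type*} [AddCommGroup V] [Module F3 V] (S : OSpace V)

/-- The reflection in an anisotropic vector. -/
def genRefl (v : V) : V →ₗ[F3] V := LinearMap.id + (S.B v v • S.B v).smulRight v

theorem genRefl_isom {v : V} (hv : S.B v v ≠ 0) (x y : V) :
    S.B (genRefl S v x) (genRefl S v y) = S.B x y := by
  have key : ∀ e a b : F3, e ≠ 0 → e * a * b + (e * b * a + e * a * (e * b * e)) = 0 := by decide
  simp only [genRefl, LinearMap.add_apply, LinearMap.id_apply, LinearMap.smulRight_apply, LinearMap.smul_apply,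
    map_add, map_smul, smul_eq_mul]
  linear_combination key _ (S.B v x) (S.B v y) hv + S.B v v * S.B v y * S.symm x v

/-- A map carrying one singular vector to another, not perpendicular, one. -/
theorem exists_isom_step {a b : V} (ha : S.B a a = 0) (hb : S.B b b = 0) (hab : S.B a b ≠ 0) :
    ∃ T : V →ₗ[F3] V, (∀ x y, S.B (T x) (T y) = S.B x y) ∧ T a = b := by
  have hv : S.B (b - a) (b - a) = S.B a b := by
    have key : ∀ t : F3, (0 - t) - (t - 0) = t := by decide
    rw [S.sub_left, map_sub, map_sub, ha, hb, S.symm b a, key]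
  refine ⟨genRefl S (b - a), genRefl_isom S (by rw [hv]; exact hab), ?_⟩
  simp only [genRefl, LinearMap.add_apply, LinearMap.id_apply, LinearMap.smulRight_apply, LinearMap.smul_apply,
    smul_eq_mul]
  rw [hv, S.sub_left, ha, S.symm b a, sub_zero, f3_sq hab, one_smul]
  abel

end

variable {G : Type u} [Group G] [Finite G] {D : Set G} {d : G}
variable {V : Type} [AddCommGroup V] [Module F3 V] [Finite V] {S : OSpace V}

/-- Points are two to a member. -/
theorem ncard_image (C : Coord D S d) (P : V → Prop) (hP : ∀ a, S.Pt a → P a → P (-a)) :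
    {a | S.Pt a ∧ P a}.ncard = 2 * (C.φ '' {a | S.Pt a ∧ P a}).ncard := by
  classical
  haveI := Fintype.ofFinite V
  set A := Finset.univ.filter fun a => S.Pt a ∧ P a with hA
  have hS : {a | S.Pt a ∧ P a} = (A : Set V) := by ext; simp [hA]
  rw [hS, Set.ncard_coe_finset, ← Finset.coe_image, Set.ncard_coe_finset, Finset.card_eq_sum_card_image C.φ A,
    mul_comm, ← smul_eq_mul, ← Finset.sum_const]
  refine Finset.sum_congr rfl fun g hg => ?_
  obtain ⟨a, ha, rfl⟩ := Finset.mem_image.1 hg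
  obtain ⟨hpt, hPa⟩ := (Finset.mem_filter.1 ha).2
  have hne : a ≠ -a := fun h => S.pt_ne_zero hpt
    (by simpa [eq_neg_iff_add_eq_zero.1 h] using three_zero a)
  rw [← Finset.card_pair hne]
  congr 1
  ext b
  simp only [hA, Finset.mem_filter, Finset.mem_univ, true_and, Finset.mem_insert, Finset.mem_singleton]
  constructor
  · rintro ⟨⟨hb, -⟩, he⟩
    exact (C.eq_iff a b hpt hb).1 he.symm
  · rintro (rfl | rfl)
    · exact ⟨⟨hpt, hPa⟩, rfl⟩
    · exact ⟨⟨S.pt_neg hpt, hP a hpt hPa⟩, C.φ_neg hpt⟩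

theorem ncard_perp (C : Coord D S d) : {a | S.Pt a}.ncard = 2 * (perp D d).ncard := by
  have h := ncard_image C (fun _ => True) (fun _ _ _ => trivial)
  simp only [and_true] at h
  rw [h]
  congr 2
  ext x
  exact ⟨by rintro ⟨a, ha, rfl⟩; exact C.mem a ha, fun hx => C.surj x hx⟩

theorem ncard_perp_inter (C : Coord D S d) {a₀ : V} (h₀ : S.Pt a₀) :
    {a | S.Pt a ∧ S.B a₀ a = 0}.ncard = 2 * (perp D d ∩ perp D (C.φ a₀)).ncard := by
  rw [ncard_image C _ fun a _ h => by rw [map_neg, h, neg_zero]]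
  congr 2
  ext x
  constructor
  · rintro ⟨a, ⟨ha, h⟩, rfl⟩
    obtain ⟨h1, h2⟩ := C.commute_orth h₀ ha h
    exact ⟨C.mem a ha, (C.mem a ha).1, h1, h2⟩
  · rintro ⟨hx, -, hne, hc⟩
    obtain ⟨a, ha, rfl⟩ := C.surj x hx
    exact ⟨a, ⟨ha, C.orth_of_commute h₀ ha hne hc⟩, rfl⟩

theorem ncard_perp_common (C : Coord D S d) {y : G} (hdy : ¬ Commute d y) :
    {a | S.Pt a ∧ Commute (C.φ a) y}.ncard = 2 * (perp D d ∩ perp D y).ncard := by
  rw [ncard_image C _ fun a ha h => by rwa [C.φ_neg ha]]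
  congr 2
  ext x
  constructor
  · rintro ⟨a, ⟨ha, h⟩, rfl⟩
    exact ⟨C.mem a ha, (C.mem a ha).1, fun e => hdy (e ▸ (C.mem a ha).2.2), h.symm⟩
  · rintro ⟨hx, -, -, hc⟩
    obtain ⟨a, ha, rfl⟩ := C.surj x hx
    exact ⟨a, ⟨ha, hc.symm⟩, rfl⟩

/-- The general step, from a model. -/
theorem full_of_model (h : FischerThm.Generic D) (hd : d ∈ D) {n : ℕ} {s : ZMod 3}
    {S : OSpace (Fin n → ZMod 3)} (hS : ∀ x y, S.B x y = bf n s x y) (C : Coord D S d) {y : G} (hy : y ∈ D)
    (hdy : ¬ Commute d y) {w₀ : Vec n} {ℓ : Vec n → ZMod 3} {bad : List ℕ} {k l : ℕ}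
    (M : Model n s w₀ ℓ bad k l)
    (hex : ∀ μ ∈ bad, μ ∣ k * (k - 1 - l) →
      ¬ (2 * (k : ℤ) + (((1 + k + k * (k - 1 - l) / μ : ℕ) : ℤ) - 1) * ((l : ℤ) - μ) = 0 ∨
        ∃ q : ℕ, (q : ℤ) ^ 2 = ((l : ℤ) - μ) ^ 2 + 4 * ((k : ℤ) - μ)))
    {w : Vec n} (hw : S.Sing w) (hsub : ∀ f, S.Pt f → Commute (C.φ f) y → S.B w f = 0)
    (hclosed : ∀ f a, S.Pt f → S.Pt a → Commute (C.φ f) y → S.B w a = 0 → S.B f a = 0 → Commute (C.φ a) y) :
    ∀ a, S.Pt a → S.B w a = 0 → Commute (C.φ a) y := by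
  -- the parameters
  obtain ⟨a₀, ha₀, hone⟩ := M.one
  have hpt₀ : S.Pt a₀ := (hS _ _).trans ha₀
  obtain ⟨hμpos, -, hdvd, hN, hsq⟩ := FischerThm.srg G D h d hd _ (C.mem a₀ hpt₀) y hy hdy _ _ _ rfl rfl rfl
  have hk : (perp D d).ncard = k := by
    have h1 := ncard_perp C
    have h2 : {a | S.Pt a}.ncard = 2 * k := by
      rw [← M.total, ← Set.ncard_coe_finset]
      congr 1
      ext a
      simp [OSpace.Pt, hS]
    omega
  have hl : (perp D d ∩ perp D (C.φ a₀)).ncard = l := by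
    have h1 := ncard_perp_inter C hpt₀
    have h2 : {a | S.Pt a ∧ S.B a₀ a = 0}.ncard = 2 * l := by
      rw [← hone, ← Set.ncard_coe_finset]
      congr 1
      ext a
      simp [OSpace.Pt, hS]
    omega
  -- move the standard vector
  obtain ⟨T, hT, hTw⟩ : ∃ T : Vec n →ₗ[F3] Vec n, (∀ x y, S.B (T x) (T y) = S.B x y) ∧ T w₀ = w := by
    have h0 : S.B w₀ w₀ = 0 := (hS _ _).trans M.sing.1
    rcases M.reach w ((hS _ _).symm.trans hw.1) hw.2 with h1 | ⟨z, hz, hz1, hz2⟩
    · exact exists_isom_step S h0 hw.1 (by rwa [hS])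
    · rw [← hS] at hz hz1 hz2
      obtain ⟨T₁, hT₁, e₁⟩ := exists_isom_step S h0 hz hz1
      obtain ⟨T₂, hT₂, e₂⟩ := exists_isom_step S hz hw.1 hz2
      exact ⟨T₂.comp T₁, fun x y => by simp [hT₁, hT₂], by simp [e₁, e₂]⟩
  have hTinj : Function.Injective T := fun p q e => sub_eq_zero.1 (S.nd _ fun r => by
    rw [← hT, map_sub T, e, sub_self, map_zero]; rfl)
  have hTsurj : Function.Surjective T := Finite.injective_iff_surjective.1 hTinj
  -- the common partners in the standard model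
  set Y : Vec n → Prop := fun a => Commute (C.φ (T a)) y with hYdef
  have hmem : ∀ a, a ∈ pts n s w₀ ↔ S.Pt (T a) ∧ S.B w (T a) = 0 := fun a => by
    simp [pts, OSpace.Pt, ← hTw, hT, hS]
  have hstep : ∀ a ∈ pts n s w₀, ∀ b ∈ pts n s w₀, Y a → bf n s a b = 0 → Y b := fun a ha b hb hYa hab =>
    hclosed _ _ ((hmem a).1 ha).1 ((hmem b).1 hb).1 hYa ((hmem b).1 hb).2 (by rw [hT, hS, hab])
  have hclass : ∀ a ∈ pts n s w₀, ∀ b ∈ pts n s w₀, ℓ a = ℓ b → Y a → Y b := by
    intro a ha b hb hab hYa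
    rcases M.conn a ha b hb hab with h1 | ⟨z, hz, h1, h2⟩
    · exact hstep a ha b hb hYa h1
    · exact hstep z hz b hb (hstep a ha z hz hYa h1) h2
  by_contra hcon
  push Not at hcon
  obtain ⟨a', ha', hwa', hna'⟩ := hcon
  obtain ⟨a, rfl⟩ := hTsurj a'
  classical
  let τ : ZMod 3 → Bool := fun j => decide (∃ b ∈ pts n s w₀, ℓ b = j ∧ Y b)
  have hτ : ∀ b ∈ pts n s w₀, (τ (ℓ b) = true ↔ Y b) := fun b hb => by
    simp only [τ, decide_eq_true_iff]
    exact ⟨fun ⟨c, hc, he, hYc⟩ => hclass c hc b hb he hYc, fun hYb => ⟨b, hb, rfl, hYb⟩⟩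
  obtain ⟨x, ⟨hx, -, -, hxc⟩⟩ : (perp D d ∩ perp D y).Nonempty := (Set.ncard_pos (Set.toFinite _)).1 hμpos
  obtain ⟨f, hf, rfl⟩ := C.surj x hx
  obtain ⟨f, rfl⟩ := hTsurj f
  have hfm : f ∈ pts n s w₀ := (hmem f).2 ⟨hf, hsub _ hf hxc.symm⟩
  obtain ⟨m, hm, hcard⟩ := M.size τ ⟨f, hfm, (hτ f hfm).2 hxc.symm⟩
    ⟨a, (hmem a).2 ⟨ha', hwa'⟩, Bool.eq_false_iff.2 fun e => hna' ((hτ a ((hmem a).2 ⟨ha', hwa'⟩)).1 e)⟩
  have himg : T '' ↑((pts n s w₀).filter fun b => τ (ℓ b) = true) = {b | S.Pt b ∧ Commute (C.φ b) y} := by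
    ext b
    constructor
    · rintro ⟨c, hc, rfl⟩
      rw [Finset.coe_filter] at hc
      exact ⟨((hmem c).1 hc.1).1, (hτ c hc.1).1 hc.2⟩
    · rintro ⟨hb, hbc⟩
      obtain ⟨c, rfl⟩ := hTsurj b
      have hcm : c ∈ pts n s w₀ := (hmem c).2 ⟨hb, hsub _ hb hbc⟩
      exact ⟨c, Finset.mem_coe.2 (Finset.mem_filter.2 ⟨hcm, (hτ c hcm).2 hbc⟩), rfl⟩
  have hμ : (perp D d ∩ perp D y).ncard = m := by
    have h1 := ncard_perp_common C hdy
    rw [← himg, Set.ncard_image_of_injective _ hTinj, Set.ncard_coe_finset, hcard] at h1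
    omega
  rw [hk, hl, hμ] at hdvd hsq hN
  rw [hN] at hsq
  exact hex m hm hdvd (hsq.imp_right fun ⟨q, _, hq, _⟩ => ⟨q, hq⟩)

end SmallDim

open SmallDim in
/-- In dimensions five and six the common partners of `d` and `y` are all points perpendicular to `w`. -/
theorem common_full_small {G : Type u} [Group G] [Finite G] {D : Set G} (h : FischerThm.Generic D) {d : G}
    (hd : d ∈ D) {n : ℕ} (hn : n = 5 ∨ n = 6) {s : ZMod 3} (hs : s = 1 ∨ s = -1)
    (S : OSpace (Fin n → ZMod 3)) (hS : ∀ x y, S.B x y = -∑ i, FischerThm.stdW n s i * (x i * y i))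
    (C : Coord D S d) {y : G} (hy : y ∈ D) (hdy : ¬ Commute d y) {w : Fin n → ZMod 3} (hw : S.Sing w)
    (hsub : ∀ f, S.Pt f → Commute (C.φ f) y → S.B w f = 0)
    (hclosed : ∀ f a, S.Pt f → S.Pt a → Commute (C.φ f) y → S.B w a = 0 → S.B f a = 0 → Commute (C.φ a) y) :
    ∀ a, S.Pt a → S.B w a = 0 → Commute (C.φ a) y := by
  rcases hn with rfl | rfl <;> rcases hs with rfl | rfl
  · refine full_of_model h hd hS C hy hdy model_five_one ?_ hw hsub hclosed
    intro μ hμ _
    rcases List.mem_pair.1 hμ with rfl | rfl <;>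
      (rintro (hX | ⟨q, hq⟩)
       · norm_num at hX
       · have hb : q < 14 := by by_contra hb; push Not at hb; have : (14 : ℤ) ≤ q := by exact_mod_cast hb
                                norm_num at hq; nlinarith
         interval_cases q <;> norm_num at hq)
  · exact full_of_model h hd hS C hy hdy model_five_neg (fun μ hμ => absurd hμ (List.not_mem_nil)) hw hsub hclosed
  · exact full_of_model h hd hS C hy hdy model_six_one (fun μ hμ => absurd hμ (List.not_mem_nil)) hw hsub hclosed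
  · refine full_of_model h hd hS C hy hdy model_six_neg ?_ hw hsub hclosed
    intro μ hμ _
    rcases List.mem_pair.1 hμ with rfl | rfl <;>
      (rintro (hX | ⟨q, hq⟩)
       · norm_num at hX
       · have hb : q < 32 := by by_contra hb; push Not at hb; have : (32 : ℤ) ≤ q := by exact_mod_cast hb
                                norm_num at hq; nlinarith
         interval_cases q <;> norm_num at hq)

end CfsgLib.FischerOrth
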