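import Cfsg.Agent.FischerOrth.Rigid

/-!
# Perpendicular spaces of frames, and one dimension more
-/

set_option autoImplicit false

namespace CfsgLib.FischerOrth

open Module

namespace OSpace

variable {V : Type*} [AddCommGroup V] [Module F3 V] (S : OSpace V)

/-- One dimension more, by a point. -/
def ext : OSpace (F3 × V) where
  B := LinearMap.mk₂ F3 (fun p q => -(p.1 * q.1) + S.B p.2 q.2)
    (fun p p' q => by simp only [Prod.fst_add, Prod.snd_add, S.add_left]; ring)
    (fun t p q => by simp only [Prod.smul_fst, Prod.smul_snd, S.smul_left, smul_eq_mul]; ring)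
    (fun p q q' => by simp only [Prod.fst_add, Prod.snd_add, map_add]; ring)
    (fun t p q => by simp only [Prod.smul_fst, Prod.smul_snd, map_smul, smul_eq_mul]; ring)
  symm p q := by simp only [LinearMap.mk₂_apply, S.symm p.2 q.2, mul_comm p.1 q.1]
  nd p hp := by
    have h1 := hp (1, 0)
    simp only [LinearMap.mk₂_apply, map_zero, mul_one, add_zero, neg_eq_zero] at h1
    refine Prod.ext h1 (S.nd _ fun y => ?_)
    simpa [LinearMap.mk₂_apply] using hp (0, y)

theorem ext_apply (p q : F3 × V) : S.ext.B p q = -(p.1 * q.1) + S.B p.2 q.2 := rfl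

/-- The image of a vector in the larger space. -/
abbrev lift (v : V) : F3 × V := (0, v)

theorem ext_lift_left (v : V) (p : F3 × V) : S.ext.B ((0, v) : F3 × V) p = S.B v p.2 := by simp [ext_apply]

theorem ext_lift (v w : V) : S.ext.B ((0, v) : F3 × V) ((0, w) : F3 × V) = S.B v w := by simp [ext_apply]

theorem ext_top_left (p : F3 × V) : S.ext.B ((1, 0) : F3 × V) p = -p.1 := by simp [ext_apply]

theorem pt_lift {v : V} : S.ext.Pt ((0, v) : F3 × V) ↔ S.Pt v := by simp [Pt, ext_lift]

theorem pt_top : S.ext.Pt ((1, 0) : F3 × V) := by simp [Pt, ext_apply]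

theorem gram_one' {a : V} (ha : S.Pt a) (c : Fin 1 → F3)
    (h : ∀ i, ∑ l, c l * S.B (![a] l) (![a] i) = 0) : c = 0 :=
  S.gram_one (by rw [show S.B a a = -1 from ha]; decide) c h

theorem gram_two' {a b : V} (ha : S.Pt a) (hb : S.Pt b) (hab : S.B a b = 0) (c : Fin 2 → F3)
    (h : ∀ i, ∑ l, c l * S.B (![a, b] l) (![a, b] i) = 0) : c = 0 :=
  S.gram_two (by rw [show S.B a a = -1 from ha, show S.B b b = -1 from hb, hab]; decide) c h

variable [Finite V]

/-- The frame conditions of `k` vectors. -/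
abbrev Frame {k : ℕ} (f : Fin k → V) : Prop :=
  ∀ c : Fin k → F3, (∀ i, ∑ l, c l * S.B (f l) (f i) = 0) → c = 0

/-- The perpendicular space of a frame. -/
def sub {k : ℕ} (f : Fin k → V) (hG : S.Frame f) : OSpace ↥(S.perp f) where
  B := S.B.compl₁₂ (S.perp f).subtype (S.perp f).subtype
  symm x y := S.symm _ _
  nd x hx := by
    have hmem : (x : V) ∈ Submodule.span F3 (Set.range f) :=
      S.mem_span_of_rad fun y hy => hx ⟨y, hy⟩
    rw [Submodule.mem_span_range_iff_exists_fun] at hmem
    obtain ⟨c, hc⟩ := hmem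
    refine Subtype.ext ?_
    rw [← hc, hG c fun i => ?_]
    · simp
    · have e := S.mem_perp.1 x.2 i
      rw [S.symm, ← hc, map_sum, LinearMap.sum_apply] at e
      simpa using e

theorem sub_apply {k : ℕ} (f : Fin k → V) (hG : S.Frame f) (x y : ↥(S.perp f)) :
    (S.sub f hG).B x y = S.B x y := rfl

theorem pt_sub {k : ℕ} {f : Fin k → V} {hG : S.Frame f} {x : ↥(S.perp f)} :
    (S.sub f hG).Pt x ↔ S.Pt (x : V) := Iff.rfl

theorem refl_sub {k : ℕ} {f : Fin k → V} {hG : S.Frame f} (a x : ↥(S.perp f)) :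
    (((S.sub f hG).refl a x : ↥(S.perp f)) : V) = S.refl a x := rfl

theorem finrank_perp_frame {k : ℕ} (f : Fin k → V) (hG : S.Frame f) :
    finrank F3 (S.perp f) + k = finrank F3 V := by
  refine le_antisymm ?_ (S.finrank_perp f)
  let Φ : (Fin k → F3) →ₗ[F3] V := Fintype.linearCombination F3 f
  have hΦ : ∀ c i, S.B (Φ c) (f i) = ∑ l, c l * S.B (f l) (f i) := fun c i => by
    rw [Fintype.linearCombination_apply, map_sum, LinearMap.sum_apply]; simp
  have hinj : Function.Injective Φ := by
    rw [← LinearMap.ker_eq_bot, LinearMap.ker_eq_bot']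
    exact fun c hc => hG c fun i => by rw [← hΦ, hc, map_zero]; rfl
  have hdis : LinearMap.range Φ ⊓ S.perp f = ⊥ := by
    rw [Submodule.eq_bot_iff]
    rintro _ ⟨⟨c, rfl⟩, hp⟩
    rw [hG c fun i => by rw [← hΦ, S.symm]; exact S.mem_perp.1 hp i, map_zero]
  have h2 := Submodule.finrank_sup_add_finrank_inf_eq (LinearMap.range Φ) (S.perp f)
  rw [hdis, finrank_bot, LinearMap.finrank_range_of_inj hinj, finrank_pi, Fintype.card_fin] at h2
  have := Submodule.finrank_le (LinearMap.range Φ ⊔ S.perp f)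
  omega

theorem finrank_ext : finrank F3 (F3 × V) = finrank F3 V + 1 := by
  rw [finrank_prod, finrank_self, add_comm]

theorem finrank_ext_perp {k : ℕ} (f : Fin k → V) (hG : S.Frame f)
    (hG' : S.ext.Frame fun i => ((0, f i) : F3 × V)) :
    finrank F3 (S.ext.perp fun i => ((0, f i) : F3 × V)) + k = finrank F3 V + 1 := by
  rw [← finrank_ext (V := V)]; exact S.ext.finrank_perp_frame _ hG'

theorem frame_lift {k : ℕ} {f : Fin k → V} (hG : S.Frame f) : S.ext.Frame fun i => ((0, f i) : F3 × V) :=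
  fun c h => hG c fun i => by simpa [ext_lift] using h i

end OSpace

end CfsgLib.FischerOrth
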